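import Mathlib

/-!
Even permutations with prescribed values and generation of alternating groups by consecutive
three-cycles.
-/

set_option autoImplicit false

namespace Cfsg.Agent.H68.ShortUn

open Equiv

variable {n k : ℕ}

theorem exists_perm_map {ι κ : Fin k → Fin n} (hι : Function.Injective ι)
    (hκ : Function.Injective κ) : ∃ σ : Perm (Fin n), ∀ i, σ (ι i) = κ i := by
  classical
  let e : {x // x ∈ Set.range ι} ≃ {x // x ∈ Set.range κ} :=
    (Equiv.ofInjective ι hι).symm.trans (Equiv.ofInjective κ hκ)
  refine ⟨e.extendSubtype, fun i => ?_⟩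
  rw [Equiv.extendSubtype_apply_of_mem _ _ ⟨i, rfl⟩]
  simp [e]

/-- An even permutation with prescribed values, up to exchanging the last two. -/
theorem exists_alt_swap {ι κ : Fin (k + 2) → Fin n} (hι : Function.Injective ι)
    (hκ : Function.Injective κ) :
    ∃ g : alternatingGroup (Fin n), (∀ i, i.val < k → (g : Perm (Fin n)) (ι i) = κ i) ∧
      (((g : Perm (Fin n)) (ι ⟨k, by omega⟩) = κ ⟨k, by omega⟩ ∧
          (g : Perm (Fin n)) (ι ⟨k + 1, by omega⟩) = κ ⟨k + 1, by omega⟩) ∨
        ((g : Perm (Fin n)) (ι ⟨k, by omega⟩) = κ ⟨k + 1, by omega⟩ ∧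
          (g : Perm (Fin n)) (ι ⟨k + 1, by omega⟩) = κ ⟨k, by omega⟩)) := by
  obtain ⟨σ, hσ⟩ := exists_perm_map hι hκ
  rcases Int.units_eq_one_or (Perm.sign σ) with h | h
  · exact ⟨⟨σ, Perm.mem_alternatingGroup.2 h⟩, fun i _ => hσ i, Or.inl ⟨hσ _, hσ _⟩⟩
  · have hne : ι ⟨k, by omega⟩ ≠ ι ⟨k + 1, by omega⟩ :=
      fun e => by have := congrArg Fin.val (hι e); simp at this
    refine ⟨⟨σ * swap (ι ⟨k, by omega⟩) (ι ⟨k + 1, by omega⟩), Perm.mem_alternatingGroup.2 ?_⟩,
      fun i hi => ?_, Or.inr ⟨?_, ?_⟩⟩
    · rw [map_mul, h, Perm.sign_swap hne]; rfl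
    · show σ (swap _ _ (ι i)) = _
      rw [swap_apply_of_ne_of_ne, hσ]
      · exact fun e => by have := congrArg Fin.val (hι e); simp at this; omega
      · exact fun e => by have := congrArg Fin.val (hι e); simp at this; omega
    · show σ (swap _ _ _) = _
      rw [swap_apply_left, hσ]
    · show σ (swap _ _ _) = _
      rw [swap_apply_right, hσ]

/-- An even permutation with prescribed values, if two points are spare. -/
theorem exists_alt_map {ι κ : Fin k → Fin n} (hι : Function.Injective ι)
    (hκ : Function.Injective κ) (hk : k + 2 ≤ n) :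
    ∃ g : alternatingGroup (Fin n), ∀ i, (g : Perm (Fin n)) (ι i) = κ i := by
  classical
  obtain ⟨σ, hσ⟩ := exists_perm_map hι hκ
  rcases Int.units_eq_one_or (Perm.sign σ) with h | h
  · exact ⟨⟨σ, Perm.mem_alternatingGroup.2 h⟩, hσ⟩
  · have hc : 1 < ((Finset.univ.image ι)ᶜ).card := by
      rw [Finset.card_compl, Finset.card_image_of_injective _ hι, Finset.card_univ, Fintype.card_fin,
        Fintype.card_fin]
      omega
    obtain ⟨a, ha, b, hb, hab⟩ := Finset.one_lt_card.1 hc
    simp only [Finset.mem_compl, Finset.mem_image, Finset.mem_univ, true_and, not_exists] at ha hb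
    refine ⟨⟨σ * swap a b, Perm.mem_alternatingGroup.2 ?_⟩, fun i => ?_⟩
    · rw [map_mul, h, Perm.sign_swap hab]; rfl
    · show σ (swap a b (ι i)) = _
      rw [swap_apply_of_ne_of_ne (ha i) (hb i), hσ]

/-- Consecutive three-cycles generate the permutations supported on the first points. -/
theorem mem_of_cycles (M : Subgroup (alternatingGroup (Fin n))) (m : ℕ) (hmn : m ≤ n)
    (hM : ∀ i, ∀ hi : i + 3 ≤ m, ∃ c ∈ M,
      (c : Perm (Fin n)) ⟨i, by omega⟩ = ⟨i + 1, by omega⟩ ∧
      (c : Perm (Fin n)) ⟨i + 1, by omega⟩ = ⟨i + 2, by omega⟩ ∧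
      ∀ x : Fin n, i + 3 ≤ x.val → (c : Perm (Fin n)) x = x)
    (g : alternatingGroup (Fin n)) (hg : ∀ x : Fin n, m ≤ x.val → (g : Perm (Fin n)) x = x) :
    g ∈ M := by
  induction m generalizing g with
  | zero =>
    rw [show g = 1 from Subtype.ext (Equiv.ext fun x => hg x (Nat.zero_le _))]
    exact one_mem M
  | succ m ih =>
    replace ih := fun (h : m ≤ n) => ih h fun i hi => hM i (by omega)
    have hm := hmn
    set j := (g : Perm (Fin n)) ⟨m, by omega⟩ with hj
    have hjm : j.val ≤ m := by
      by_contra h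
      have h1 := hg j (by omega)
      have := congrArg Fin.val ((g : Perm (Fin n)).injective h1)
      simp only at this
      omega
    by_cases hjeq : j.val = m
    · refine ih (by omega) g fun x hx => ?_
      rcases Nat.lt_or_ge m x.val with h | h
      · exact hg x (by omega)
      · rw [show x = ⟨m, by omega⟩ from Fin.ext (by simp only; omega), ← hj]
        exact Fin.ext hjeq
    · -- move `j` to `m`
      suffices h : ∃ d ∈ M, (d : Perm (Fin n)) j = ⟨m, by omega⟩ ∧
          ∀ x : Fin n, m + 1 ≤ x.val → (d : Perm (Fin n)) x = x by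
        obtain ⟨d, hd, hdj, hdx⟩ := h
        rw [← M.mul_mem_cancel_left hd]
        refine ih (by omega) (d * g) fun x hx => ?_
        show (d : Perm (Fin n)) ((g : Perm (Fin n)) x) = x
        rcases Nat.lt_or_ge m x.val with h | h
        · rw [hg x (by omega), hdx x (by omega)]
        · rw [show x = ⟨m, by omega⟩ from Fin.ext (by simp only; omega), ← hj, hdj]
      rcases Nat.lt_or_ge m 2 with h2 | h2
      · -- a single transposition is odd
        exfalso
        have hm1 : m = 1 := by omega
        subst hm1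
        have hgs : (g : Perm (Fin n)) = swap ⟨0, by omega⟩ ⟨1, by omega⟩ := by
          ext x
          have hj0 : j = ⟨0, by omega⟩ := Fin.ext (by simp only; omega)
          rcases Nat.lt_or_ge x.val 2 with hx | hx
          · rcases Nat.lt_or_ge x.val 1 with hx0 | hx0
            · rw [show x = ⟨0, by omega⟩ from Fin.ext (show x.val = 0 by omega), swap_apply_left]
              set y := (g : Perm (Fin n)) ⟨0, by omega⟩
              have hy : y.val ≤ 1 := by
                by_contra h
                have h1 := hg y (by omega)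
                have := congrArg Fin.val ((g : Perm (Fin n)).injective h1)
                simp only at this
                omega
              have hy0 : y ≠ j := fun e => by
                have := congrArg Fin.val ((g : Perm (Fin n)).injective e)
                simp at this
              have : y.val ≠ 0 := fun e => hy0 (by rw [hj0]; exact Fin.ext e)
              show y.val = 1
              omega
            · rw [show x = ⟨1, by omega⟩ from Fin.ext (show x.val = 1 by omega), swap_apply_right,
                ← hj, hj0]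
          · rw [swap_apply_of_ne_of_ne (by intro e; rw [e] at hx; simp at hx)
              (by intro e; rw [e] at hx; simp at hx), hg x hx]
        have hs := Perm.mem_alternatingGroup.1 g.2
        rw [hgs, Perm.sign_swap (by simp)] at hs
        exact absurd hs (by decide)
      obtain ⟨c, hc, hc0, hc1, hcx⟩ := hM (m - 2) (by omega)
      have hc1' : (c : Perm (Fin n)) ⟨m - 1, by omega⟩ = ⟨m, by omega⟩ := by
        have e1 : (⟨m - 1, by omega⟩ : Fin n) = ⟨m - 2 + 1, by omega⟩ := Fin.ext (by simp only; omega)
        rw [e1, hc1]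
        exact Fin.ext (by simp only; omega)
      have hcx' : ∀ x : Fin n, m + 1 ≤ x.val → (c : Perm (Fin n)) x = x := fun x hx => hcx x (by omega)
      by_cases hj1 : j.val = m - 1
      · refine ⟨c, hc, ?_, hcx'⟩
        rw [← hc1']
        exact congrArg _ (Fin.ext hj1)
      rcases Nat.lt_or_ge m 3 with h3 | h3
      · refine ⟨c * c, mul_mem hc hc, ?_, fun x hx => by
          show (c : Perm (Fin n)) ((c : Perm (Fin n)) x) = x
          rw [hcx' x hx, hcx' x hx]⟩
        show (c : Perm (Fin n)) ((c : Perm (Fin n)) j) = _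
        rw [show j = ⟨m - 2, by omega⟩ from Fin.ext (by simp only; omega), hc0, ← hc1']
        exact congrArg _ (Fin.ext (by simp only; omega))
      obtain ⟨a, ha, haj, ha1⟩ : ∃ a : Fin n, a.val < m ∧ a.val ≠ j.val ∧ a.val ≠ m - 1 := by
        by_cases h0 : j.val = 0
        · exact ⟨⟨1, by omega⟩, by simp only; omega, by simp only; omega, by simp only; omega⟩
        · exact ⟨⟨0, by omega⟩, by simp only; omega, by simp only; omega, by simp only; omega⟩
      have e1 : j ≠ a := fun e => haj (congrArg Fin.val e.symm)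
      have e2 : j ≠ ⟨m - 1, by omega⟩ := fun e => hj1 (congrArg Fin.val e)
      have e3 : (⟨m - 1, by omega⟩ : Fin n) ≠ a := fun e => ha1 (congrArg Fin.val e.symm)
      let h : alternatingGroup (Fin n) := ⟨swap j a * swap j ⟨m - 1, by omega⟩,
        Perm.mem_alternatingGroup.2 (by rw [map_mul, Perm.sign_swap e1, Perm.sign_swap e2]; rfl)⟩
      have hhx : ∀ x : Fin n, m ≤ x.val → (h : Perm (Fin n)) x = x := fun x hx => by
        show swap j a (swap j _ x) = x
        have n1 : x ≠ j := by intro e; rw [e] at hx; omega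
        rw [swap_apply_of_ne_of_ne n1 (by intro e; rw [e] at hx; simp at hx; omega),
          swap_apply_of_ne_of_ne n1 (by intro e; rw [e] at hx; omega)]
      refine ⟨c * h, mul_mem hc (ih (by omega) h hhx), ?_, fun x hx => ?_⟩
      · show (c : Perm (Fin n)) (swap j a (swap j _ j)) = _
        rw [swap_apply_left, swap_apply_of_ne_of_ne e2.symm e3, hc1']
      · show (c : Perm (Fin n)) ((h : Perm (Fin n)) x) = x
        rw [hhx x (by omega), hcx' x hx]

/-- Consecutive three-cycles generate. -/
theorem alt_eq_top (M : Subgroup (alternatingGroup (Fin n)))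
    (hM : ∀ i (hi : i + 3 ≤ n), ∃ c ∈ M,
      (c : Perm (Fin n)) ⟨i, by omega⟩ = ⟨i + 1, by omega⟩ ∧
      (c : Perm (Fin n)) ⟨i + 1, by omega⟩ = ⟨i + 2, by omega⟩ ∧
      ∀ x : Fin n, i + 3 ≤ x.val → (c : Perm (Fin n)) x = x) : M = ⊤ :=
  eq_top_iff.2 fun g _ => mem_of_cycles M n le_rfl hM g fun x hx => absurd x.2 (by omega)

end Cfsg.Agent.H68.ShortUn
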