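import Cfsg.Agent.H68.ShortUn.PermSU
import Cfsg.Agent.H68.ShortUn.AltFacts
import Cfsg.Agent.Cores.Phan.Completion

/-!
Glueing `SU₄` to the alternating group for fields of more than four elements: the pieces give an
amalgam of blocks, whose completion is the special unitary group.
-/

set_option autoImplicit false
set_option linter.unusedSectionVars false

namespace Cfsg.Agent.H68.ShortUn

open Cfsg Equiv Cfsg.Agent.Unitary Cfsg.Agent.Cores.Phan

section Perms

variable {n : ℕ}

theorem exists_two (i : ℕ) (hi : i + 2 ≤ n) (hn : 5 ≤ n) :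
    ∃ g : alternatingGroup (Fin n), (g : Perm (Fin n)) ⟨0, by omega⟩ = ⟨i, by omega⟩ ∧
      (g : Perm (Fin n)) ⟨1, by omega⟩ = ⟨i + 1, by omega⟩ := by
  obtain ⟨g, hg⟩ := exists_alt_map (seg 0 2 n (by omega)).injective
    (seg i 2 n hi).injective (by omega)
  exact ⟨g, hg 0, hg 1⟩

theorem exists_three (i : ℕ) (hi : i + 3 ≤ n) (hn : 5 ≤ n) :
    ∃ g : alternatingGroup (Fin n), ∀ j, (g : Perm (Fin n)) (seg 0 3 n (by omega) j) = seg i 3 n hi j :=
  exists_alt_map (seg 0 3 n (by omega)).injective (seg i 3 n hi).injective (by omega)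

theorem exists_small (f : Fin 4 → Fin 4) (hf : Function.Injective f)
    (hs : Perm.sign (Equiv.ofBijective f (Finite.injective_iff_bijective.1 hf)) = 1) (hn : 5 ≤ n) :
    ∃ h : alternatingGroup (Fin n), (∀ i : Fin n, 4 ≤ i.val → (h : Perm (Fin n)) i = i) ∧
      ∀ j, (h : Perm (Fin n)) (seg 0 4 n (by omega) j) = seg 0 4 n (by omega) (f j) := by
  classical
  let e : Perm (Fin 4) := Equiv.ofBijective f (Finite.injective_iff_bijective.1 hf)
  refine ⟨⟨e.viaFintypeEmbedding (seg 0 4 n (by omega)), ?_⟩, fun i hi => ?_, fun j => ?_⟩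
  · rw [Perm.mem_alternatingGroup, Perm.viaFintypeEmbedding_sign]
    exact hs
  · refine Perm.viaFintypeEmbedding_apply_notMem_range _ _ ?_
    rintro ⟨j, rfl⟩
    simp at hi
    omega
  · exact Perm.viaFintypeEmbedding_apply_image _ _ _

theorem disjoint_even : ∀ x y : Fin 2, (seg 0 2 4 (by omega) x : Fin 4) ≠
    (![2, 3, 0, 1] : Fin 4 → Fin 4) (seg 0 2 4 (by omega) y) := by decide

theorem disjoint_odd : ∀ x y : Fin 2, (seg 0 2 4 (by omega) x : Fin 4) ≠
    (![3, 2, 1, 0] : Fin 4 → Fin 4) (seg 0 2 4 (by omega) y) := by decide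

end Perms

variable {F : Type*} [Field F] [Fintype F] {n q : ℕ} {G : Type*} [Group G]

theorem emb_congr {k : ℕ} (hF : Fintype.card F = q ^ 2) {ι κ : Fin k ↪ Fin n} (u : SU k F q)
    (h : ∀ j, ι j = κ j) : emb hF ι u = emb hF κ u := by rw [Function.Embedding.ext h]

/-- The glueing relations. -/
structure Glue (hF : Fintype.card F = q ^ 2) (hn : 5 ≤ n) (ρ : alternatingGroup (Fin n) →* G)
    (Ψ : SU 4 F q →* G) (θ : G →* SU n F q) : Prop where
  θ_ρ : θ.comp ρ = permA hF
  θ_Ψ : θ.comp Ψ = emb hF (seg 0 4 n (by omega))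
  hgen : ρ.range ⊔ Ψ.range = ⊤
  hA : ∀ g : alternatingGroup (Fin n), (∀ i : Fin n, 4 ≤ i.val → (g : Perm (Fin n)) i = i) →
    ∀ x : SU 4 F q, emb hF (seg 0 4 n (by omega)) x = permA hF g → ρ g = Ψ x
  hC : ∀ g : alternatingGroup (Fin n), (g : Perm (Fin n)) ⟨0, by omega⟩ = ⟨0, by omega⟩ →
    (g : Perm (Fin n)) ⟨1, by omega⟩ = ⟨1, by omega⟩ →
    ∀ u : SU 2 F q, Commute (ρ g) (Ψ (emb hF (seg 0 2 4 (by omega)) u))

variable {hF : Fintype.card F = q ^ 2} {hn : 5 ≤ n} {ρ : alternatingGroup (Fin n) →* G}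
  {Ψ : SU 4 F q →* G} {θ : G →* SU n F q}

/-- The conjugate of the first block by an even permutation. -/
def blockMap (hF : Fintype.card F = q ^ 2) (ρ : alternatingGroup (Fin n) →* G) (Ψ : SU 4 F q →* G)
    (g : alternatingGroup (Fin n)) : SU 2 F q →* G :=
  (MulAut.conj (ρ g)).toMonoidHom.comp (Ψ.comp (emb hF (seg 0 2 4 (by omega))))

theorem blockMap_apply (g : alternatingGroup (Fin n)) (u : SU 2 F q) :
    blockMap hF ρ Ψ g u = ρ g * Ψ (emb hF (seg 0 2 4 (by omega)) u) * (ρ g)⁻¹ := rfl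

namespace Glue

variable (R : Glue hF hn ρ Ψ θ)
include R

theorem θρ (g : alternatingGroup (Fin n)) : θ (ρ g) = permA hF g := DFunLike.congr_fun R.θ_ρ g

theorem θΨ (x : SU 4 F q) : θ (Ψ x) = emb hF (seg 0 4 n (by omega)) x := DFunLike.congr_fun R.θ_Ψ x

theorem block_eq {g g' : alternatingGroup (Fin n)}
    (h0 : (g : Perm (Fin n)) ⟨0, by omega⟩ = (g' : Perm (Fin n)) ⟨0, by omega⟩)
    (h1 : (g : Perm (Fin n)) ⟨1, by omega⟩ = (g' : Perm (Fin n)) ⟨1, by omega⟩) :
    blockMap hF ρ Ψ g = blockMap hF ρ Ψ g' := by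
  refine MonoidHom.ext fun u => ?_
  have hc := R.hC (g'⁻¹ * g)
    (by show (g' : Perm (Fin n)).symm ((g : Perm (Fin n)) _) = _; rw [h0, symm_apply_apply])
    (by show (g' : Perm (Fin n)).symm ((g : Perm (Fin n)) _) = _; rw [h1, symm_apply_apply]) u
  rw [blockMap_apply, blockMap_apply]
  have e : ρ g = ρ g' * ρ (g'⁻¹ * g) := by rw [← map_mul, mul_inv_cancel_left]
  rw [e, mul_assoc (ρ g'), hc.eq]
  group

/-- Moving a block inside the first quadrangle. -/
theorem block_move {k : ℕ} (h : alternatingGroup (Fin n))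
    (hh : ∀ i : Fin n, 4 ≤ i.val → (h : Perm (Fin n)) i = i) (ι κ : Fin k ↪ Fin 4)
    (hικ : ∀ j, (h : Perm (Fin n)) (seg 0 4 n (by omega) (ι j)) = seg 0 4 n (by omega) (κ j))
    (v : SU k F q) : ρ h * Ψ (emb hF ι v) * (ρ h)⁻¹ = Ψ (emb hF κ v) := by
  obtain ⟨x, hx⟩ := exists_emb_perm hF (alternatingGroup (Fin n)).subtype sign_alt
    (seg 0 4 n (by omega)) h fun i hi => hh i (by
      by_contra hc
      exact hi ⟨i.val, by omega⟩ (Fin.ext (Nat.zero_add _)))
  rw [R.hA h hh x hx, ← map_inv, ← map_mul, ← map_mul]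
  congr 1
  refine emb_injective hF (seg 0 4 n (by omega)) ?_
  rw [map_mul, map_mul, map_inv, hx, emb_emb, emb_emb]
  refine (permA_conj hF h _ v).trans ?_
  exact emb_congr hF v fun j => hικ j

theorem injective (hq : 3 ≤ q) : Function.Injective θ := by
  classical
  choose γ hγ0 hγ1 using fun (i : ℕ) (hi : i + 2 ≤ n) => exists_two (n := n) i hi hn
  let φ : ℕ → SU 2 F q →* G := fun i => if h : i + 2 ≤ n then blockMap hF ρ Ψ (γ i h) else 1
  have hφ : ∀ i (hi : i + 2 ≤ n) (g : alternatingGroup (Fin n)),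
      (g : Perm (Fin n)) ⟨0, by omega⟩ = ⟨i, by omega⟩ →
      (g : Perm (Fin n)) ⟨1, by omega⟩ = ⟨i + 1, by omega⟩ → φ i = blockMap hF ρ Ψ g := by
    intro i hi g h0 h1
    simp only [φ, dif_pos hi]
    exact R.block_eq (by rw [hγ0, h0]) (by rw [hγ1, h1])
  -- blocks in the conjugates of the first quadrangle
  have inQuad : ∀ (g : alternatingGroup (Fin n)) (f : Fin 4 → Fin 4) (hf : Function.Injective f),
      Perm.sign (Equiv.ofBijective f (Finite.injective_iff_bijective.1 hf)) = 1 →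
      ∀ i (hi : i + 2 ≤ n), (g : Perm (Fin n)) (seg 0 4 n (by omega) (f 0)) = ⟨i, by omega⟩ →
      (g : Perm (Fin n)) (seg 0 4 n (by omega) (f 1)) = ⟨i + 1, by omega⟩ → ∀ u,
      φ i u = ρ g * Ψ (emb hF ((seg 0 2 4 (by omega)).trans ⟨f, hf⟩) u) * (ρ g)⁻¹ := by
    intro g f hf hs i hi h0 h1 u
    obtain ⟨h, hh, hhv⟩ := exists_small f hf hs hn
    rw [hφ i hi (g * h) ((congrArg (g : Perm (Fin n)) (hhv 0)).trans h0)
      ((congrArg (g : Perm (Fin n)) (hhv 1)).trans h1), blockMap_apply,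
      ← R.block_move h hh (seg 0 2 4 (by omega)) ((seg 0 2 4 (by omega)).trans ⟨f, hf⟩)
        (fun j => hhv _) u, map_mul]
    group
  have hsame : ((seg 0 2 4 (by omega)).trans
      (⟨id, Function.injective_id⟩ : Fin 4 ↪ Fin 4)) = seg 0 2 4 (by omega) := rfl
  obtain ⟨m, rfl⟩ : ∃ m, n = m + 1 := ⟨n - 1, by omega⟩
  -- the amalgam
  have hAm : Amalgam hF m φ := by
    constructor
    · intro i j hij hj a b
      obtain ⟨g, hg, hcase⟩ := exists_alt_swap (k := 2) (n := m + 1)
        (ι := seg 0 4 (m + 1) (by omega))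
        (κ := ![⟨i, by omega⟩, ⟨i + 1, by omega⟩, ⟨j, by omega⟩, ⟨j + 1, by omega⟩])
        (seg 0 4 (m + 1) (by omega)).injective (by
          intro x y h
          have h' := congrArg Fin.val h
          fin_cases x <;> fin_cases y <;> simp at h' <;> first | rfl | omega)
      have ea : φ i a = ρ g * Ψ (emb hF ((seg 0 2 4 (by omega)).trans ⟨id, Function.injective_id⟩) a)
          * (ρ g)⁻¹ :=
        inQuad g id Function.injective_id (by decide) i (by omega) (hg 0 (by decide))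
          (hg 1 (by decide)) a
      have hd1 := disjoint_even
      have hd2 := disjoint_odd
      rcases hcase with ⟨c2, c3⟩ | ⟨c2, c3⟩
      · rw [ea, inQuad g ![2, 3, 0, 1] (by decide) (by decide) j (by omega) c2 c3 b]
        exact (((emb_commute hF _ _ (fun x y => hd1 x y) a b).map Ψ).map
          (MulAut.conj (ρ g)).toMonoidHom)
      · rw [ea, inQuad g ![3, 2, 1, 0] (by decide) (by decide) j (by omega) c3 c2 b]
        exact (((emb_commute hF _ _ (fun x y => hd2 x y) a b).map Ψ).map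
          (MulAut.conj (ρ g)).toMonoidHom)
    · intro i hi
      obtain ⟨g, hg⟩ := exists_three (n := m + 1) i (by omega) hn
      refine ⟨(MulAut.conj (ρ g)).toMonoidHom.comp (Ψ.comp (emb hF (seg 0 3 4 (by omega)))), ?_, ?_⟩
      · refine MonoidHom.ext fun u => ?_
        rw [inQuad g id Function.injective_id (by decide) i (by omega) (hg 0) (hg 1) u]
        show ρ g * Ψ (emb hF _ (emb hF _ u)) * (ρ g)⁻¹ = _
        rw [emb_emb]
        rfl
      · refine MonoidHom.ext fun u => ?_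
        rw [inQuad g ![1, 2, 0, 3] (by decide) (by decide) (i + 1) (by omega) (hg 1) (hg 2) u]
        show ρ g * Ψ (emb hF _ (emb hF _ u)) * (ρ g)⁻¹ = _
        rw [emb_emb]
        congr 3
  have hbase : Extends hF φ Ψ := by
    intro i hi
    refine MonoidHom.ext fun u => ?_
    obtain rfl | rfl | rfl : i = 0 ∨ i = 1 ∨ i = 2 := by omega
    · rw [inQuad 1 id Function.injective_id (by decide) 0 (by omega) rfl rfl u, map_one]
      simp [hsame]
    · rw [inQuad 1 ![1, 2, 0, 3] (by decide) (by decide) 1 (by omega) rfl rfl u, map_one, inv_one,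
        one_mul, mul_one, MonoidHom.comp_apply]
      congr 2
    · rw [inQuad 1 ![2, 3, 0, 1] (by decide) (by decide) 2 (by omega) rfl rfl u, map_one, inv_one,
        one_mul, mul_one, MonoidHom.comp_apply]
      congr 2
  obtain ⟨Φ, hΦ⟩ := hAm.exists_hom hF hq (b := 4) (by omega) (by omega) (Or.inr le_rfl) hbase
  -- it is a retraction
  have hret : θ.comp Φ = MonoidHom.id _ := by
    refine hom_ext hF hq (by omega) fun i hi => MonoidHom.ext fun u => ?_
    show θ (Φ (emb hF _ u)) = emb hF _ u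
    rw [show Φ (emb hF _ u) = φ i u from DFunLike.congr_fun (hΦ i hi) u]
    simp only [φ, dif_pos hi, blockMap_apply, map_mul, map_inv, R.θρ, R.θΨ, emb_emb]
    rw [permA_conj]
    refine emb_congr hF u fun j => ?_
    fin_cases j
    · exact hγ0 i hi
    · exact hγ1 i hi
  have hquad : Φ.comp (emb hF (seg 0 4 (m + 1) (by omega))) = Ψ := by
    refine hom_ext hF hq (by omega) fun i hi => ?_
    rw [hbase i hi, ← hΦ i (by omega)]
    refine MonoidHom.ext fun u => ?_
    simp only [MonoidHom.comp_apply, emb_emb]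
    exact congrArg Φ (emb_congr hF u fun j => Fin.ext (Nat.zero_add _))
  have hρ : ρ = Φ.comp (permA hF) := by
    suffices h : ρ.eqLocus (Φ.comp (permA hF)) = ⊤ from
      MonoidHom.ext fun g => (h ▸ Subgroup.mem_top g : g ∈ ρ.eqLocus (Φ.comp (permA hF)))
    refine alt_eq_top _ fun i hi => ?_
    obtain ⟨g, hg⟩ := exists_three (n := m + 1) i hi hn
    obtain ⟨c, hc, hcv⟩ := exists_small (n := m + 1) ![1, 2, 0, 3] (by decide) (by decide) hn
    have h03 : ∀ x : Fin (m + 1), 3 ≤ x.val → (c : Perm (Fin (m + 1))) x = x := by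
      intro x hx
      rcases Nat.lt_or_ge x.val 4 with h | h
      · have e : x = seg 0 4 (m + 1) (by omega) 3 := Fin.ext (show x.val = 0 + 3 by omega)
        rw [e, hcv]
        rfl
      · exact hc x h
    obtain ⟨t, ht⟩ := exists_emb_perm hF (alternatingGroup (Fin (m + 1))).subtype sign_alt
      (seg 0 3 (m + 1) (by omega)) c fun x hx => h03 x (by
        by_contra h
        exact hx ⟨x.val, by omega⟩ (Fin.ext (Nat.zero_add _)))
    have hP3 : ∀ v, Φ (emb hF (seg i 3 (m + 1) hi) v) =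
        ρ g * Ψ (emb hF (seg 0 3 4 (by omega)) v) * (ρ g)⁻¹ := by
      refine DFunLike.congr_fun (f := Φ.comp (emb hF (seg i 3 (m + 1) hi)))
        (g := (MulAut.conj (ρ g)).toMonoidHom.comp (Ψ.comp (emb hF (seg 0 3 4 (by omega)))))
        (hom_ext hF hq (by omega) fun j hj => MonoidHom.ext fun u => ?_)
      show Φ (emb hF _ (emb hF _ u)) = ρ g * Ψ (emb hF _ (emb hF _ u)) * (ρ g)⁻¹
      rw [emb_emb, emb_emb, seg_trans j 2 i 3 (m + 1) hj hi (by omega),
        show Φ (emb hF (seg (i + j) 2 (m + 1) (by omega)) u) = φ (i + j) u from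
          DFunLike.congr_fun (hΦ (i + j) (by omega)) u]
      obtain rfl | rfl : j = 0 ∨ j = 1 := by omega
      · rw [inQuad g id Function.injective_id (by decide) (i + 0) (by omega) (hg 0) (hg 1) u]
        rfl
      · rw [inQuad g ![1, 2, 0, 3] (by decide) (by decide) (i + 1) (by omega) (hg 1) (hg 2) u]
        congr 3
    have hval : ∀ a : Fin 3, ((g * c * g⁻¹ : alternatingGroup (Fin (m + 1))) : Perm (Fin (m + 1)))
        (seg i 3 (m + 1) hi a) = seg i 3 (m + 1) hi (![1, 2, 0] a) := by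
      intro a
      show (g : Perm (Fin (m + 1))) ((c : Perm (Fin (m + 1))) ((g : Perm (Fin (m + 1))).symm _)) = _
      rw [← hg a, symm_apply_apply, show seg 0 3 (m + 1) (by omega) a =
        seg 0 4 (m + 1) (by omega) (a.castSucc) from Fin.ext rfl, hcv, ← hg]
      fin_cases a <;> rfl
    refine ⟨g * c * g⁻¹, ?_, hval 0, hval 1, fun x hx => ?_⟩
    · show ρ (g * c * g⁻¹) = Φ (permA hF (g * c * g⁻¹))
      have e1 : permA hF (g * c * g⁻¹) = emb hF (seg i 3 (m + 1) hi) t := by
        rw [map_mul, map_mul, map_inv, show permA hF c = emb hF _ t from ht.symm, permA_conj]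
        exact emb_congr hF t hg
      have e2 : ρ c = Ψ (emb hF (seg 0 3 4 (by omega)) t) := by
        refine R.hA c hc _ ?_
        rw [emb_emb]
        refine Eq.trans ?_ ht
        exact emb_congr hF t fun j => Fin.ext (Nat.zero_add _)
      rw [e1, hP3, map_mul, map_mul, map_inv, e2]
    · show (g : Perm (Fin (m + 1))) ((c : Perm (Fin (m + 1))) ((g : Perm (Fin (m + 1))).symm x)) = x
      rw [h03 _ ?_, apply_symm_apply]
      by_contra h
      have e : (g : Perm (Fin (m + 1))).symm x =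
          seg 0 3 (m + 1) (by omega) ⟨((g : Perm (Fin (m + 1))).symm x).val, by omega⟩ :=
        Fin.ext (Nat.zero_add _).symm
      have e2 := congrArg (g : Perm (Fin (m + 1))) e
      rw [apply_symm_apply, hg] at e2
      have := congrArg Fin.val e2
      simp at this
      omega
  have hsurj : Φ.range = ⊤ := by
    rw [eq_top_iff, ← R.hgen, sup_le_iff, hρ, ← hquad]
    exact ⟨by rintro _ ⟨g, rfl⟩; exact ⟨_, rfl⟩, by rintro _ ⟨g, rfl⟩; exact ⟨_, rfl⟩⟩
  intro x y hxy
  obtain ⟨a, rfl⟩ := (MonoidHom.range_eq_top.1 hsurj) x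
  obtain ⟨b, rfl⟩ := (MonoidHom.range_eq_top.1 hsurj) y
  rw [← MonoidHom.comp_apply, ← MonoidHom.comp_apply, hret] at hxy
  exact congrArg Φ hxy

end Glue

end Cfsg.Agent.H68.ShortUn
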