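import Cfsg.Agent.H99.HasPres

/-!
A presentation of a group generated by images of two presented groups subject to further
relations, written in their coproduct.
-/

set_option autoImplicit false

namespace Cfsg.Agent.H68.ShortUn

open Cfsg.Agent.H99.BoundedPres

/-- Two presented groups glued by a list of further relations. -/
theorem hasPres_glue {T W V : Type*} [Group T] [Group W] [Group V] {k l k' l' N : ℕ}
    (hW : HasPres W k l) (hV : HasPres V k' l') (ρ0 : W →* T) (Ψ0 : V →* T)
    (hgen : ρ0.range ⊔ Ψ0.range = ⊤) (E : List (Monoid.Coprod W V × Monoid.Coprod W V))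
    (hlen : l + l' + E.length ≤ N)
    (hsat : ∀ e ∈ E, Monoid.Coprod.lift ρ0 Ψ0 e.1 = Monoid.Coprod.lift ρ0 Ψ0 e.2)
    (hinj : ∀ (G : Type) [Group G] (ρ : W →* G) (Ψ : V →* G) (θ : G →* T), θ.comp ρ = ρ0 →
      θ.comp Ψ = Ψ0 → ρ.range ⊔ Ψ.range = ⊤ →
      (∀ e ∈ E, Monoid.Coprod.lift ρ Ψ e.1 = Monoid.Coprod.lift ρ Ψ e.2) → Function.Injective θ) :
    HasPres T (k + k') N := by
  classical
  obtain ⟨f, R, hR, hf, hfs, hfu⟩ := hW
  obtain ⟨f', R', hR', hf', hfs', hfu'⟩ := hV
  let iL : FreeGroup (Fin k) →* FreeGroup (Fin (k + k')) :=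
    FreeGroup.lift fun i => FreeGroup.of (i.castAdd k')
  let iR : FreeGroup (Fin k') →* FreeGroup (Fin (k + k')) :=
    FreeGroup.lift fun i => FreeGroup.of (i.natAdd k)
  let gc : Fin (k + k') → Monoid.Coprod W V :=
    Fin.append (fun i => Monoid.Coprod.inl (f i)) (fun i => Monoid.Coprod.inr (f' i))
  have hgc : Subgroup.closure (Set.range gc) = ⊤ := by
    rw [eq_top_iff, ← Monoid.Coprod.range_inl_sup_range_inr, sup_le_iff]
    constructor
    · rw [MonoidHom.range_eq_map, ← hf, MonoidHom.map_closure, Subgroup.closure_le]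
      rintro _ ⟨_, ⟨i, rfl⟩, rfl⟩
      exact Subgroup.subset_closure ⟨i.castAdd k', Fin.append_left _ _ _⟩
    · rw [MonoidHom.range_eq_map, ← hf', MonoidHom.map_closure, Subgroup.closure_le]
      rintro _ ⟨_, ⟨i, rfl⟩, rfl⟩
      exact Subgroup.subset_closure ⟨i.natAdd k, Fin.append_right _ _ _⟩
  choose w hw using fun x => exists_word hgc x
  let Φ : Fin (k + k') → T := Fin.append (fun i => ρ0 (f i)) (fun i => Ψ0 (f' i))
  let L : List (FreeGroup (Fin (k + k')) × FreeGroup (Fin (k + k'))) :=
    R.toList.map (fun r => (iL r, 1)) ++ R'.toList.map (fun r => (iR r, 1)) ++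
      E.map (fun e => (w e.1, w e.2))
  have hLlen : L.length ≤ N := by
    simp only [L, List.length_append, List.length_map, Finset.length_toList]
    omega
  have hΦc : FreeGroup.lift Φ = (Monoid.Coprod.lift ρ0 Ψ0).comp (FreeGroup.lift gc) := by
    ext i
    induction i using Fin.addCases <;> simp [Φ, gc]
  refine HasPres.of_list L hLlen Φ ?_ ?_ ?_
  · rw [eq_top_iff, ← hgen, sup_le_iff, MonoidHom.range_eq_map, MonoidHom.range_eq_map, ← hf,
      ← hf', MonoidHom.map_closure, MonoidHom.map_closure, Subgroup.closure_le, Subgroup.closure_le]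
    constructor <;> rintro _ ⟨_, ⟨i, rfl⟩, rfl⟩
    · exact Subgroup.subset_closure ⟨i.castAdd k', Fin.append_left _ _ _⟩
    · exact Subgroup.subset_closure ⟨i.natAdd k, Fin.append_right _ _ _⟩
  · intro r hr
    simp only [L, List.mem_append, List.mem_map, Finset.mem_toList] at hr
    rcases hr with (⟨u, hu, rfl⟩ | ⟨u, hu, rfl⟩) | ⟨e, he, rfl⟩
    · show FreeGroup.lift Φ (iL u) = FreeGroup.lift Φ 1
      have e1 : (FreeGroup.lift Φ).comp iL = ρ0.comp (FreeGroup.lift f) := by
        ext i
        simp [iL, Φ]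
      rw [← MonoidHom.comp_apply, e1, MonoidHom.comp_apply, hfs u hu, map_one, map_one]
    · show FreeGroup.lift Φ (iR u) = FreeGroup.lift Φ 1
      have e1 : (FreeGroup.lift Φ).comp iR = Ψ0.comp (FreeGroup.lift f') := by
        ext i
        simp [iR, Φ]
      rw [← MonoidHom.comp_apply, e1, MonoidHom.comp_apply, hfs' u hu, map_one, map_one]
    · show FreeGroup.lift Φ (w e.1) = FreeGroup.lift Φ (w e.2)
      rw [hΦc, MonoidHom.comp_apply, MonoidHom.comp_apply, hw, hw, hsat e he]
  · intro G _ π hπ hrels θ hθ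
    have hrel : ∀ a b, (a, b) ∈ L → π a = π b := fun a b h => hrels (a, b) h
    obtain ⟨ρ, hρ⟩ := hfu G (fun i => π (FreeGroup.of (i.castAdd k'))) fun r hr => by
      have h := hrel (iL r) 1 (by simp only [L, List.mem_append, List.mem_map, Finset.mem_toList]
                                  exact Or.inl (Or.inl ⟨r, hr, rfl⟩))
      rw [map_one] at h
      rw [← h, ← MonoidHom.comp_apply]
      exact DFunLike.congr_fun (FreeGroup.ext_hom _ _ fun i => by simp [iL]) r
    obtain ⟨Ψ, hΨ⟩ := hfu' G (fun i => π (FreeGroup.of (i.natAdd k))) fun r hr => by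
      have h := hrel (iR r) 1 (by simp only [L, List.mem_append, List.mem_map, Finset.mem_toList]
                                  exact Or.inl (Or.inr ⟨r, hr, rfl⟩))
      rw [map_one] at h
      rw [← h, ← MonoidHom.comp_apply]
      exact DFunLike.congr_fun (FreeGroup.ext_hom _ _ fun i => by simp [iR]) r
    have hπc : π = (Monoid.Coprod.lift ρ Ψ).comp (FreeGroup.lift gc) := by
      ext i
      induction i using Fin.addCases <;> simp [gc, hρ, hΨ]
    have hθ' : ∀ y, θ (π y) = FreeGroup.lift Φ y := fun y => DFunLike.congr_fun hθ y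
    refine hinj G ρ Ψ θ (hom_ext_closure hf fun i => ?_) (hom_ext_closure hf' fun i => ?_) ?_ ?_
    · simp [hρ, hθ', Φ]
    · simp [hΨ, hθ', Φ]
    · rw [eq_top_iff, ← Subgroup.map_top_of_surjective π hπ, ← FreeGroup.closure_range_of,
        MonoidHom.map_closure, Subgroup.closure_le]
      rintro _ ⟨_, ⟨i, rfl⟩, rfl⟩
      induction i using Fin.addCases with
      | left i => exact Subgroup.mem_sup_left ⟨f i, hρ i⟩
      | right i => exact Subgroup.mem_sup_right ⟨f' i, hΨ i⟩
    · intro e he
      have h := hrel (w e.1) (w e.2) (by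
        simp only [L, List.mem_append, List.mem_map, Finset.mem_toList]
        exact Or.inr ⟨e, he, rfl⟩)
      rw [hπc, MonoidHom.comp_apply, MonoidHom.comp_apply, hw, hw] at h
      exact h

end Cfsg.Agent.H68.ShortUn
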