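import Cfsg.Agent.H68.ShortUn.Big
import Cfsg.Agent.H68.ShortUn.Combine
import Cfsg.Agent.H68.ShortU4.Pres
import Cfsg.Agent.H68.ShortSL.Main

/-!
The presentation of `SUₙ(q)` for `n ≥ 5` and fields of more than four elements.
-/

set_option autoImplicit false
set_option linter.unusedSectionVars false

namespace Cfsg.Agent.H68.ShortUn

open Cfsg Equiv Cfsg.Agent.Unitary Cfsg.Agent.Cores.Phan Cfsg.Agent.H99.BoundedPres

/-- The embedding of the permutations of a segment, for even permutations. -/
def segAlt (a k n : ℕ) (h : a + k ≤ n) : alternatingGroup (Fin k) →* alternatingGroup (Fin n) :=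
  ((Perm.extendDomainHom (seg a k n h).toEquivRange).comp (alternatingGroup (Fin k)).subtype).codRestrict
    _ fun g => Perm.mem_alternatingGroup.2 (by
      show Perm.sign ((g : Perm (Fin k)).viaFintypeEmbedding (seg a k n h)) = 1
      rw [Perm.viaFintypeEmbedding_sign]
      exact Perm.mem_alternatingGroup.1 g.2)

theorem segAlt_apply (a k n : ℕ) (h : a + k ≤ n) (g : alternatingGroup (Fin k)) (j : Fin k) :
    (segAlt a k n h g : Perm (Fin n)) (seg a k n h j) = seg a k n h ((g : Perm (Fin k)) j) :=
  Perm.viaFintypeEmbedding_apply_image _ _ _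

theorem segAlt_apply_off (a k n : ℕ) (h : a + k ≤ n) (g : alternatingGroup (Fin k)) (x : Fin n)
    (hx : x.val < a ∨ a + k ≤ x.val) : (segAlt a k n h g : Perm (Fin n)) x = x := by
  refine Perm.viaFintypeEmbedding_apply_notMem_range _ _ ?_
  rintro ⟨j, rfl⟩
  simp at hx
  omega

theorem exists_segAlt (a k n : ℕ) (h : a + k ≤ n) (g : alternatingGroup (Fin n))
    (hg : ∀ x : Fin n, x.val < a ∨ a + k ≤ x.val → (g : Perm (Fin n)) x = x) :
    ∃ g', segAlt a k n h g' = g := by
  classical
  have hin : ∀ j : Fin k, ∃ j', seg a k n h j' = (g : Perm (Fin n)) (seg a k n h j) := by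
    intro j
    set y := (g : Perm (Fin n)) (seg a k n h j) with hy
    by_contra hc
    push Not at hc
    have hout : y.val < a ∨ a + k ≤ y.val := by
      by_contra h'
      push Not at h'
      exact hc ⟨y.val - a, by omega⟩ (Fin.ext (show a + (y.val - a) = y.val by omega))
    have h1 := (g : Perm (Fin n)).injective (hg y hout)
    exact hc j h1.symm
  choose f hf using hin
  have hinj : Function.Injective f := fun x y e => (seg a k n h).injective
    ((g : Perm (Fin n)).injective (by rw [← hf x, ← hf y, e]))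
  let e : Perm (Fin k) := Equiv.ofBijective f (Finite.injective_iff_bijective.1 hinj)
  have he : e.viaFintypeEmbedding (seg a k n h) = (g : Perm (Fin n)) := by
    refine Equiv.ext fun x => ?_
    by_cases hx : x ∈ Set.range (seg a k n h)
    · obtain ⟨j, rfl⟩ := hx
      rw [Perm.viaFintypeEmbedding_apply_image]
      exact hf j
    · rw [Perm.viaFintypeEmbedding_apply_notMem_range _ _ hx, hg]
      by_contra h'
      push Not at h'
      exact hx ⟨⟨x.val - a, by omega⟩, Fin.ext (show a + (x.val - a) = x.val by omega)⟩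
  refine ⟨⟨e, Perm.mem_alternatingGroup.2 ?_⟩, Subtype.ext he⟩
  rw [← Perm.viaFintypeEmbedding_sign e (seg a k n h), he]
  exact Perm.mem_alternatingGroup.1 g.2

variable {F : Type*} [Field F] [Fintype F] {n q : ℕ}

/-- The block generates together with the permutations. -/
theorem model_gen (hF : Fintype.card F = q ^ 2) (hq : 3 ≤ q) (hn : 5 ≤ n) :
    (permA (n := n) (F := F) hF).range ⊔ (emb hF (seg 0 4 n (by omega))).range = ⊤ := by
  set H := (permA (n := n) (F := F) hF).range ⊔ (emb hF (seg 0 4 n (by omega))).range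
  rw [eq_top_iff, ← pairGen_eq_top hF hq (by omega : 2 ≤ n)]
  refine iSup₂_le fun i hi => ?_
  rintro _ ⟨u, rfl⟩
  obtain ⟨g, h0, h1⟩ := exists_two (n := n) i hi hn
  have e : emb hF (seg i 2 n hi) u =
      permA hF g * emb hF (seg 0 4 n (by omega)) (emb hF (seg 0 2 4 (by omega)) u) *
        (permA hF g)⁻¹ := by
    rw [emb_emb, permA_conj]
    refine emb_congr hF u fun j => ?_
    fin_cases j
    · exact h0.symm
    · exact h1.symm
  rw [e]
  exact mul_mem (mul_mem (Subgroup.mem_sup_left ⟨g, rfl⟩) (Subgroup.mem_sup_right ⟨_, rfl⟩))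
    (inv_mem (Subgroup.mem_sup_left ⟨g, rfl⟩))

/-- The presentation, given one of the alternating group. -/
theorem hasPres_su_of_alt (hF : Fintype.card F = q ^ 2) (hq : 3 ≤ q) (hn : 5 ≤ n) {a : ℕ}
    (hA : HasPres (alternatingGroup (Fin n)) 2 a) : HasPres (SU n F q) 6 (a + 30) := by
  classical
  obtain ⟨u, v, huv⟩ := exists_su_two_gen (F := F) hF
  obtain ⟨w, -, -, hw, -, -⟩ := ShortAlt.hasPres_alt (n - 2)
  let c0 : alternatingGroup (Fin 4) := ⟨swap 0 1 * swap 1 2, Perm.mem_alternatingGroup.2 (by decide)⟩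
  let c1 : alternatingGroup (Fin 4) := ⟨swap 1 2 * swap 2 3, Perm.mem_alternatingGroup.2 (by decide)⟩
  let C : Fin 2 → alternatingGroup (Fin n) := fun i => segAlt 0 4 n (by omega) (![c0, c1] i)
  let D : Fin 2 → alternatingGroup (Fin n) := fun i => segAlt 2 (n - 2) n (by omega) (w i)
  let U : Fin 2 → SU 4 F q := fun i => emb hF (seg 0 2 4 (by omega)) (![u, v] i)
  have hCx : ∀ i, ∃ x : SU 4 F q, emb hF (seg 0 4 n (by omega)) x = permA hF (C i) := fun i =>
    exists_emb_perm hF _ sign_alt _ (C i) fun x hx => segAlt_apply_off _ _ _ _ _ _ (Or.inr (by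
      by_contra h
      exact hx ⟨x.val, by omega⟩ (Fin.ext (Nat.zero_add _))))
  choose X hX using hCx
  let E : List (Monoid.Coprod (alternatingGroup (Fin n)) (SU 4 F q) ×
      Monoid.Coprod (alternatingGroup (Fin n)) (SU 4 F q)) :=
    List.ofFn (fun i : Fin 2 => (Monoid.Coprod.inl (C i), Monoid.Coprod.inr (X i))) ++
      List.ofFn (fun p : Fin 4 =>
        (Monoid.Coprod.inl (D (![0, 0, 1, 1] p)) * Monoid.Coprod.inr (U (![0, 1, 0, 1] p)),
          Monoid.Coprod.inr (U (![0, 1, 0, 1] p)) * Monoid.Coprod.inl (D (![0, 0, 1, 1] p))))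
  refine hasPres_glue hA (ShortU4.hasPres_su_four hF) (permA hF) (emb hF (seg 0 4 n (by omega)))
    (model_gen hF hq hn) E (by simp [E]) ?_ ?_
  · intro e he
    simp only [E, List.mem_append, List.mem_ofFn] at he
    rcases he with ⟨i, rfl⟩ | ⟨p, rfl⟩
    · simpa using (hX i).symm
    · simp only [map_mul, Monoid.Coprod.lift_apply_inl, Monoid.Coprod.lift_apply_inr, U, emb_emb]
      refine (mul_inv_eq_iff_eq_mul.1 ((permA_conj hF _ _ _).trans ?_))
      refine emb_congr hF _ fun j => ?_
      exact segAlt_apply_off _ _ _ _ _ _ (Or.inl (by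
        show 0 + (0 + j.val) < 2
        omega))
  · intro G _ ρ Ψ θ hρ hΨ hgen hrel
    have relC : ∀ i, ρ (C i) = Ψ (X i) := fun i => by
      simpa using hrel _ (List.mem_append_left _ (List.mem_ofFn.2 ⟨i, rfl⟩))
    have relD : ∀ p : Fin 4, Commute (ρ (D (![0, 0, 1, 1] p))) (Ψ (U (![0, 1, 0, 1] p))) := fun p => by
      have := hrel _ (List.mem_append_right _ (List.mem_ofFn.2 ⟨p, rfl⟩))
      simpa [Commute, SemiconjBy] using this
    refine Glue.injective (hn := hn) (hF := hF) (ρ := ρ) (Ψ := Ψ) ⟨hρ, hΨ, hgen, ?_, ?_⟩ hq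
    · -- the permutations of the first four points
      let M : Subgroup (alternatingGroup (Fin n)) :=
        { carrier := {g | ∃ x, emb hF (seg 0 4 n (by omega)) x = permA hF g ∧ ρ g = Ψ x}
          one_mem' := ⟨1, by simp, by simp⟩
          mul_mem' := by
            rintro g g' ⟨x, hx, hx'⟩ ⟨y, hy, hy'⟩
            exact ⟨x * y, by rw [map_mul, map_mul, hx, hy], by rw [map_mul, map_mul, hx', hy']⟩
          inv_mem' := by
            rintro g ⟨x, hx, hx'⟩
            exact ⟨x⁻¹, by rw [map_inv, map_inv, hx], by rw [map_inv, map_inv, hx']⟩ }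
      intro g hg x hx
      obtain ⟨y, hy, hy'⟩ : g ∈ M := by
        refine mem_of_cycles M 4 (by omega) (fun i hi => ?_) g hg
        have hc : C ⟨i, by omega⟩ ∈ M := ⟨X _, hX _, relC _⟩
        refine ⟨_, hc, ?_, ?_, fun z hz => ?_⟩
        · obtain rfl | rfl : i = 0 ∨ i = 1 := by omega
          · exact segAlt_apply 0 4 n (by omega) c0 0
          · exact segAlt_apply 0 4 n (by omega) c1 1
        · obtain rfl | rfl : i = 0 ∨ i = 1 := by omega
          · exact segAlt_apply 0 4 n (by omega) c0 1
          · exact segAlt_apply 0 4 n (by omega) c1 2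
        · rcases Nat.lt_or_ge z.val 4 with h | h
          · obtain rfl : i = 0 := by omega
            rw [show z = seg 0 4 n (by omega) 3 from Fin.ext (show z.val = 0 + 3 by omega)]
            exact segAlt_apply 0 4 n (by omega) c0 3
          · exact segAlt_apply_off _ _ _ _ _ _ (Or.inr (by omega))
      rw [hy', emb_injective hF _ (hy.trans hx.symm)]
    · -- the stabiliser of the first two points
      intro g h0 h1 y
      obtain ⟨g', eg⟩ := exists_segAlt 2 (n - 2) n (by omega) g fun x hx => by
        rcases hx with hx | hx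
        · rcases Nat.lt_or_ge x.val 1 with h | h
          · rw [show x = ⟨0, by omega⟩ from Fin.ext (show x.val = 0 by omega), h0]
          · rw [show x = ⟨1, by omega⟩ from Fin.ext (show x.val = 1 by omega), h1]
        · exact absurd x.2 (by omega)
      rw [← eg]
      clear eg h0 h1
      have hgens : ∀ i j : Fin 2, Commute (ρ (D i)) (Ψ (U j)) := fun i j => by
        fin_cases i <;> fin_cases j
        · exact relD 0
        · exact relD 1
        · exact relD 2
        · exact relD 3
      have key : ∀ i, ∀ y : SU 2 F q, Commute (ρ (D i)) (Ψ (emb hF (seg 0 2 4 (by omega)) y)) := by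
        intro i y
        have hy : y ∈ Subgroup.closure ({u, v} : Set (SU 2 F q)) := by rw [huv]; trivial
        induction hy using Subgroup.closure_induction with
        | mem y hy =>
          rcases hy with rfl | rfl
          · exact hgens i 0
          · exact hgens i 1
        | one => rw [map_one, map_one]; exact Commute.one_right _
        | mul a b _ _ ha hb => rw [map_mul, map_mul]; exact ha.mul_right hb
        | inv a _ ha => rw [map_inv, map_inv]; exact ha.inv_right
      have hg' : g' ∈ Subgroup.closure (Set.range w) := by rw [hw]; trivial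
      induction hg' using Subgroup.closure_induction with
      | mem g' hg' =>
        obtain ⟨i, rfl⟩ := hg'
        exact key i y
      | one => rw [map_one, map_one]; exact Commute.one_left _
      | mul a b _ _ ha hb => rw [map_mul, map_mul]; exact ha.mul_left hb
      | inv a _ ha => rw [map_inv, map_inv]; exact ha.inv_left

/-- `SUₙ(q)` for `n ≥ 5` and `q ≥ 3`. -/
theorem hasPres_su_big (hF : Fintype.card F = q ^ 2) (hq : 3 ≤ q) (hn : 5 ≤ n) :
    HasPres (SU n F q) 6 36 :=
  hasPres_su_of_alt hF hq hn (ShortAlt.hasPres_alt n)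

/-- `SU₅(q)` for `q ≥ 3`. -/
theorem hasPres_su_five (hF : Fintype.card F = q ^ 2) (hq : 3 ≤ q) :
    HasPres (SU 5 F q) 6 34 :=
  hasPres_su_of_alt hF hq le_rfl (ShortSL.hasPres_alt_small 2)

end Cfsg.Agent.H68.ShortUn
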