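import Cfsg.Agent.Cores.Phan.Blocks
import Cfsg.Agent.Cores.Phan.AutTwo
import Cfsg.Agent.H68.ShortSL.Pair

/-!
Permutation matrices in `SU`, their action on block embeddings, and two generators of `SU₂`.
-/

set_option autoImplicit false
set_option linter.unusedSectionVars false

namespace Cfsg.Agent.H68.ShortUn

open Cfsg Matrix Equiv Cfsg.Agent.Unitary Cfsg.Agent.Cores.Phan

variable {F : Type*} [Field F] [Fintype F] {n k q : ℕ}

theorem det_inj (σ : Perm (Fin n)) :
    (inj F σ.toEmbedding).det = ((Perm.sign σ : ℤ) : F) := by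
  have : inj F σ.toEmbedding = (σ⁻¹).permMatrix F := by
    ext i j
    show (if σ j = i then (1 : F) else 0) = if j ∈ (σ⁻¹).toPEquiv i then 1 else 0
    refine if_congr ?_ rfl rfl
    rw [Equiv.toPEquiv_apply, Option.mem_some_iff, Perm.inv_def, Equiv.symm_apply_eq, eq_comm]
  rw [this, Matrix.det_permutation, Perm.sign_inv]

theorem preserves_inj (hF : Fintype.card F = q ^ 2) (σ : Perm (Fin n)) :
    Preserves q (inj F σ.toEmbedding) := by
  rw [preserves_iff_transpose_mul hF, inj_map hF, injT_mul_inj]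

/-- A group of permutations of unit sign as permutation matrices. -/
def permHom (hF : Fintype.card F = q ^ 2) {W : Type*} [Group W] (j : W →* Perm (Fin n))
    (hj : ∀ w, ((Perm.sign (j w) : ℤ) : F) = 1) : W →* SU n F q where
  toFun w := toSU (preserves_inj hF (j w)) ((det_inj (j w)).trans (hj w))
  map_one' := Subtype.ext (Subtype.ext (by
    show inj F (j 1).toEmbedding = 1
    rw [map_one]
    ext a b
    simp [inj, Matrix.one_apply, eq_comm]))
  map_mul' a b := Subtype.ext (Subtype.ext (by
    show inj F (j (a * b)).toEmbedding = inj F (j a).toEmbedding * inj F (j b).toEmbedding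
    rw [inj_mul_inj, map_mul]
    rfl))

theorem mat_permHom (hF : Fintype.card F = q ^ 2) {W : Type*} [Group W] (j : W →* Perm (Fin n))
    (hj : ∀ w, ((Perm.sign (j w) : ℤ) : F) = 1) (w : W) :
    mat (permHom hF j hj w) = inj F (j w).toEmbedding := rfl

/-- Permutation matrices move the blocks. -/
theorem permHom_conj (hF : Fintype.card F = q ^ 2) {W : Type*} [Group W] (j : W →* Perm (Fin n))
    (hj : ∀ w, ((Perm.sign (j w) : ℤ) : F) = 1) (w : W) (ι : Fin k ↪ Fin n) (x : SU k F q) :
    permHom hF j hj w * emb hF ι x * (permHom hF j hj w)⁻¹ =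
      emb hF (ι.trans (j w).toEmbedding) x := by
  rw [mul_inv_eq_iff_eq_mul]
  refine ext_mat ?_
  rw [mat_mul, mat_mul, mat_emb, mat_emb, mat_permHom, embMat, embMat, ← inj_mul_inj]
  simp only [Matrix.transpose_mul, Matrix.mul_add, Matrix.add_mul, Matrix.mul_one, Matrix.one_mul,
    Matrix.mul_assoc, injT_mul_inj]

theorem sign_two (hF : Fintype.card F = q ^ 2) (h2 : q = 2) (σ : Perm (Fin n)) :
    ((Perm.sign σ : ℤ) : F) = 1 := by
  have h : (2 : F) = 0 := by
    have := natCast_q_eq_zero hF
    rwa [h2, Nat.cast_ofNat] at this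
  rcases Int.units_eq_one_or (Perm.sign σ) with e | e <;> rw [e]
  · simp
  · push_cast
    linear_combination -h

theorem sign_alt (g : alternatingGroup (Fin n)) :
    ((Perm.sign ((alternatingGroup (Fin n)).subtype g) : ℤ) : F) = 1 := by
  rw [show Perm.sign ((alternatingGroup (Fin n)).subtype g) = 1 from
    Perm.mem_alternatingGroup.1 g.2]
  simp

/-- The permutation matrices of even permutations. -/
def permA (hF : Fintype.card F = q ^ 2) : alternatingGroup (Fin n) →* SU n F q :=
  permHom hF (alternatingGroup (Fin n)).subtype sign_alt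

theorem permA_conj (hF : Fintype.card F = q ^ 2) (g : alternatingGroup (Fin n)) (ι : Fin k ↪ Fin n)
    (x : SU k F q) :
    permA hF g * emb hF ι x * (permA hF g)⁻¹ =
      emb hF (ι.trans (g : Perm (Fin n)).toEmbedding) x :=
  permHom_conj hF _ _ g ι x

/-- A permutation supported on a block lies in the block. -/
theorem exists_emb_perm (hF : Fintype.card F = q ^ 2) {W : Type*} [Group W] (j : W →* Perm (Fin n))
    (hj : ∀ w, ((Perm.sign (j w) : ℤ) : F) = 1) (ι : Fin k ↪ Fin n) (w : W)
    (hw : ∀ i, (∀ a, ι a ≠ i) → j w i = i) : ∃ x, emb hF ι x = permHom hF j hj w := by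
  refine exists_emb_eq hF ι fun i hi => ?_
  rw [ap_def, mat_permHom, inj_mulVec_single]
  show (Pi.single (j w i) (1 : F) : Fin n → F) = _
  rw [hw i hi]

/-- `SU₂` has two generators. -/
theorem exists_su_two_gen (hF : Fintype.card F = q ^ 2) :
    ∃ u v : SU 2 F q, Subgroup.closure ({u, v} : Set (SU 2 F q)) = ⊤ := by
  classical
  haveI : Fintype (fixK hF) := Fintype.ofFinite _
  obtain ⟨-, e, -⟩ := exists_frame_equiv hF
  obtain ⟨p, hch⟩ := CharP.exists (fixK hF)
  haveI : Fact p.Prime := ⟨CharP.char_is_prime (fixK hF) p⟩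
  let : Algebra (ZMod p) (fixK hF) := ZMod.algebra (fixK hF) p
  obtain ⟨ω, hω⟩ := IsCyclic.exists_generator (α := (fixK hF)ˣ)
  obtain ⟨P, hP⟩ := ShortSL.exists_pair ω hω (H99.SLThree.spanPowers_of_gen fun u =>
    H99.ShortPres.gen_of_generator (p := p) ω hω u)
  refine ⟨e P, e (ShortSL.sw P), ?_⟩
  have h := congrArg (Subgroup.map e.toMonoidHom) hP
  rwa [MonoidHom.map_closure, Subgroup.map_top_of_surjective _ e.surjective, Set.image_pair] at h

end Cfsg.Agent.H68.ShortUn
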