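import Cfsg.Agent.H68.ShortUn.StepTwo
import Cfsg.Agent.H68.ShortUn.PermSU
import Cfsg.Agent.H68.ShortUn.AltFacts
import Cfsg.Agent.H99.HasPres

/-!
The symmetric group and a quadrangle block glue to `SUₙ(2)`.
-/

set_option autoImplicit false
set_option linter.unusedSectionVars false

namespace Cfsg.Agent.H68.ShortUn

open Cfsg Matrix Equiv Cfsg.Agent.Unitary Cfsg.Agent.Cores.Phan

variable {F : Type*} [Field F] [Fintype F] {n k q : ℕ} {G : Type*} [Group G]

/-- The embedding of the permutations of a segment. -/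
def segPerm (a k n : ℕ) (h : a + k ≤ n) : Perm (Fin k) →* Perm (Fin n) :=
  Perm.extendDomainHom (seg a k n h).toEquivRange

theorem segPerm_apply (a k n : ℕ) (h : a + k ≤ n) (g : Perm (Fin k)) (j : Fin k) :
    segPerm a k n h g (seg a k n h j) = seg a k n h (g j) :=
  Perm.viaFintypeEmbedding_apply_image _ _ _

theorem segPerm_apply_off (a k n : ℕ) (h : a + k ≤ n) (g : Perm (Fin k)) (x : Fin n)
    (hx : x.val < a ∨ a + k ≤ x.val) : segPerm a k n h g x = x := by
  refine Perm.viaFintypeEmbedding_apply_notMem_range _ _ ?_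
  rintro ⟨j, rfl⟩
  simp at hx
  omega

theorem exists_segPerm (a k n : ℕ) (h : a + k ≤ n) (g : Perm (Fin n))
    (hg : ∀ x : Fin n, x.val < a ∨ a + k ≤ x.val → g x = x) :
    ∃ g', segPerm a k n h g' = g := by
  classical
  have hin : ∀ j : Fin k, ∃ j', seg a k n h j' = g (seg a k n h j) := by
    intro j
    set y := g (seg a k n h j) with hy
    by_contra hc
    push Not at hc
    have hout : y.val < a ∨ a + k ≤ y.val := by
      by_contra h'
      push Not at h'
      exact hc ⟨y.val - a, by omega⟩ (Fin.ext (show a + (y.val - a) = y.val by omega))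
    exact hc j (g.injective (hg y hout)).symm
  choose f hf using hin
  have hinj : Function.Injective f := fun x y e => (seg a k n h).injective
    (g.injective (by rw [← hf x, ← hf y, e]))
  refine ⟨Equiv.ofBijective f (Finite.injective_iff_bijective.1 hinj), Equiv.ext fun x => ?_⟩
  by_cases hx : x.val < a ∨ a + k ≤ x.val
  · rw [segPerm_apply_off _ _ _ _ _ _ hx, hg x hx]
  · push Not at hx
    rw [show x = seg a k n h ⟨x.val - a, by omega⟩ from
      Fin.ext (show x.val = a + (x.val - a) by omega), segPerm_apply]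
    exact hf _

theorem emb_self (hF : Fintype.card F = q ^ 2) (ι : Fin n ↪ Fin n) (hι : ∀ j, ι j = j)
    (x : SU n F q) : emb hF ι x = x := by
  obtain rfl : ι = Function.Embedding.refl _ := Function.Embedding.ext hι
  refine ext_mat ?_
  have : inj F (Function.Embedding.refl (Fin n)) = 1 := by
    ext a b
    simp [inj, Matrix.one_apply, eq_comm]
  rw [mat_emb, embMat, this]
  simp

/-- The permutation matrices, in characteristic two. -/
def permS (hF : Fintype.card F = q ^ 2) (h2 : q = 2) : Perm (Fin n) →* SU n F q :=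
  permHom hF (MonoidHom.id _) (fun w => sign_two hF h2 w)

theorem permS_conj (hF : Fintype.card F = q ^ 2) (h2 : q = 2) (g : Perm (Fin n))
    (ι : Fin k ↪ Fin n) (x : SU k F q) :
    permS hF h2 g * emb hF ι x * (permS hF h2 g)⁻¹ = emb hF (ι.trans g.toEmbedding) x :=
  permHom_conj hF _ _ g ι x

theorem exists_emb_permS (hF : Fintype.card F = q ^ 2) (h2 : q = 2) (ι : Fin k ↪ Fin n)
    (g : Perm (Fin n)) (hg : ∀ i, (∀ a, ι a ≠ i) → g i = i) :
    ∃ x, emb hF ι x = permS hF h2 g :=
  exists_emb_perm hF _ _ ι g hg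

/-- Consecutive triples generate. -/
theorem gen_triples (hF : Fintype.card F = q ^ 2) : ∀ j, 3 ≤ j → ∀ H : Subgroup (SU j F q),
    (∀ i (hi : i + 3 ≤ j) z, emb hF (seg i 3 j hi) z ∈ H) → H = ⊤ := by
  intro j
  induction j with
  | zero => omega
  | succ j ih =>
    intro hj H hH
    rcases Nat.eq_or_lt_of_le hj with h | h
    · rw [eq_top_iff]
      intro x _
      obtain rfl : j = 2 := by omega
      have := hH 0 (by omega) x
      rwa [emb_self hF _ (fun a => Fin.ext (Nat.zero_add _))] at this
    · obtain ⟨k, rfl⟩ : ∃ k, j = k + 1 := ⟨j - 1, by omega⟩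
      have hA : ∀ a, emb hF (seg 0 (k + 1) (k + 2) (by omega)) a ∈ H := fun a => by
        have := ih (by omega) (H.comap (emb hF (seg 0 (k + 1) (k + 2) (by omega)))) fun i hi z => by
          rw [Subgroup.mem_comap, emb_emb, seg_trans i 3 0 (k + 1) (k + 2) hi (by omega) (by omega)]
          exact hH _ (by omega) z
        exact Subgroup.mem_comap.1 (this ▸ Subgroup.mem_top a)
      refine top_of_swap hF (by omega) H hA fun u => ?_
      have e : emb hF (seg k 2 (k + 2) (by omega)) u = emb hF (seg (k - 1) 3 (k + 2) (by omega))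
          (emb hF (seg 1 2 3 (by omega)) u) := by
        rw [emb_emb]
        exact emb_congr' hF u fun a => by simp; omega
      rw [e]
      exact hH _ (by omega) _

/-- The glueing relations. -/
structure GlueT (hF : Fintype.card F = q ^ 2) (h2 : q = 2) (hn : 5 ≤ n) (ρ : Perm (Fin n) →* G)
    (Ψ : SU 4 F q →* G) (θ : G →* SU n F q) : Prop where
  θ_ρ : θ.comp ρ = permS hF h2
  θ_Ψ : θ.comp Ψ = emb hF (seg 0 4 n (by omega))
  hgen : ρ.range ⊔ Ψ.range = ⊤
  hA : ∀ g : Perm (Fin n), (∀ i : Fin n, 4 ≤ i.val → g i = i) →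
    ∀ x : SU 4 F q, emb hF (seg 0 4 n (by omega)) x = permS hF h2 g → ρ g = Ψ x
  hB : ∀ g : Perm (Fin n), (∀ i : Fin n, i.val < 4 → g i = i) → ∀ x, Commute (ρ g) (Ψ x)
  hC : ∀ z : SU 3 F q, Commute (ρ (swap ⟨3, by omega⟩ ⟨4, by omega⟩))
    (Ψ (emb hF (seg 0 3 4 (by omega)) z))

variable {hF : Fintype.card F = q ^ 2} {h2 : q = 2} {hn : 5 ≤ n} {ρ : Perm (Fin n) →* G}
  {Ψ : SU 4 F q →* G} {θ : G →* SU n F q}

/-- The conjugate of the block by a permutation. -/
def move (ρ : Perm (Fin n) →* G) (Ψ : SU 4 F q →* G) (g : Perm (Fin n)) : SU 4 F q →* G :=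
  (MulAut.conj (ρ g)).toMonoidHom.comp Ψ

theorem move_apply (g : Perm (Fin n)) (x : SU 4 F q) :
    move ρ Ψ g x = ρ g * Ψ x * (ρ g)⁻¹ := rfl

theorem move_mul (g h : Perm (Fin n)) (x : SU 4 F q) :
    move ρ Ψ (g * h) x = ρ g * move ρ Ψ h x * (ρ g)⁻¹ := by
  rw [move_apply, move_apply, map_mul]
  group

namespace GlueT

variable (R : GlueT hF h2 hn ρ Ψ θ)
include R

theorem θρ (g : Perm (Fin n)) : θ (ρ g) = permS hF h2 g := DFunLike.congr_fun R.θ_ρ g

theorem θΨ (x : SU 4 F q) : θ (Ψ x) = emb hF (seg 0 4 n (by omega)) x :=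
  DFunLike.congr_fun R.θ_Ψ x

theorem θmove (g : Perm (Fin n)) (x : SU 4 F q) :
    θ (move ρ Ψ g x) = emb hF ((seg 0 4 n (by omega)).trans g.toEmbedding) x := by
  rw [move_apply, map_mul, map_mul, map_inv, R.θρ, R.θΨ, permS_conj]

/-- Moving a block inside the first quadrangle. -/
theorem block_move {k : ℕ} (h : Perm (Fin n))
    (hh : ∀ i : Fin n, 4 ≤ i.val → h i = i) (ι κ : Fin k ↪ Fin 4)
    (hικ : ∀ j, h (seg 0 4 n (by omega) (ι j)) = seg 0 4 n (by omega) (κ j))
    (v : SU k F q) : ρ h * Ψ (emb hF ι v) * (ρ h)⁻¹ = Ψ (emb hF κ v) := by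
  obtain ⟨x, hx⟩ := exists_emb_permS hF h2 (seg 0 4 n (by omega)) h fun i hi => hh i (by
    by_contra hc
    exact hi ⟨i.val, by omega⟩ (Fin.ext (Nat.zero_add _)))
  rw [R.hA h hh x hx, ← map_inv, ← map_mul, ← map_mul]
  congr 1
  refine emb_injective hF (seg 0 4 n (by omega)) ?_
  rw [map_mul, map_mul, map_inv, hx, emb_emb, emb_emb, permS_conj]
  exact emb_congr' hF v fun j => congrArg Fin.val (hικ j)

/-- Permutations of the other points centralise the first `k` points. -/
theorem stab {k : ℕ} (hk : 2 ≤ k) (hk4 : k ≤ 4) (g : Perm (Fin n))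
    (hg : ∀ i : Fin n, i.val < k → g i = i) (u : SU k F q) :
    Commute (ρ g) (Ψ (emb hF (seg 0 k 4 (by omega)) u)) := by
  obtain ⟨d, rfl⟩ : ∃ d, k = 4 - d := ⟨4 - k, by omega⟩
  induction d generalizing g with
  | zero => exact R.hB g hg _
  | succ d ih =>
    obtain ⟨k', hk'⟩ : ∃ k', 4 - (d + 1) = k' ∧ 4 - d = k' + 1 := ⟨_, rfl, by omega⟩
    have e : emb hF (seg 0 (4 - (d + 1)) 4 (by omega)) u = emb hF (seg 0 (4 - d) 4 (by omega))
        (emb hF (seg 0 (4 - (d + 1)) (4 - d) (by omega)) u) := by
      rw [emb_emb]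
      exact emb_congr' hF u fun a => by simp
    have sub : ∀ g : Perm (Fin n), (∀ i : Fin n, i.val < 4 - d → g i = i) →
        Commute (ρ g) (Ψ (emb hF (seg 0 (4 - (d + 1)) 4 (by omega)) u)) := fun g hg => by
      rw [e]
      exact ih g (by omega) (by omega) hg _
    -- the transposition of the next two points
    set a : Fin n := ⟨k', by omega⟩
    set b : Fin n := ⟨k' + 1, by omega⟩
    have hswap : Commute (ρ (swap a b)) (Ψ (emb hF (seg 0 (4 - (d + 1)) 4 (by omega)) u)) := by
      rcases Nat.lt_or_ge (k' + 1) 4 with h4 | h4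
      · refine mul_inv_eq_iff_eq_mul.1 (R.block_move (swap a b) (fun i hi => ?_) _ _ (fun j => ?_) u)
        · exact swap_apply_of_ne_of_ne (fun e => by subst e; simp [a] at hi; omega)
            (fun e => by subst e; simp [b] at hi; omega)
        · exact swap_apply_of_ne_of_ne (fun e => by have := congrArg Fin.val e; simp [a] at this; omega)
            (fun e => by have := congrArg Fin.val e; simp [b] at this; omega)
      · have hd : d = 0 := by omega
        subst hd
        have hab : swap a b = swap (⟨3, by omega⟩ : Fin n) ⟨4, by omega⟩ := by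
          congr 1 <;> ext <;> simp [a, b] <;> omega
        rw [hab]
        exact R.hC u
    rcases Nat.lt_or_ge (g a).val k' with hlt | hge
    · rw [g.injective (hg (g a) (by omega))] at hlt
      exact absurd hlt (lt_irrefl k')
    have fix : ∀ g' : Perm (Fin n), (∀ i : Fin n, i.val < 4 - (d + 1) → g' i = i) → g' a = a →
        Commute (ρ g') (Ψ (emb hF (seg 0 (4 - (d + 1)) 4 (by omega)) u)) := fun g' h h' => by
      refine sub g' fun i hi => ?_
      rcases Nat.lt_or_ge i.val k' with hi' | hi'
      · exact h i (by omega)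
      · rw [show i = a from Fin.ext (show i.val = k' by omega), h']
    by_cases h0 : g a = a
    · exact fix g hg h0
    have hga : k' < (g a).val := lt_of_le_of_ne hge fun e => h0 (Fin.ext e.symm)
    have lowfix : ∀ (x y : Fin n) (i : Fin n), k' ≤ x.val → k' ≤ y.val → i.val < k' →
        swap x y i = i := fun x y i hx hy hi =>
      swap_apply_of_ne_of_ne (fun e => by subst e; omega) (fun e => by subst e; omega)
    have h1 : Commute (ρ (swap b (g a))) (Ψ (emb hF (seg 0 (4 - (d + 1)) 4 (by omega)) u)) :=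
      fix _ (fun i hi => lowfix _ _ i (by simp [b]) (by omega) (by omega))
        (swap_apply_of_ne_of_ne (fun e => by simp [a, b] at e) (fun e => h0 e.symm))
    have h3 : Commute (ρ (swap a b * swap b (g a) * g))
        (Ψ (emb hF (seg 0 (4 - (d + 1)) 4 (by omega)) u)) := by
      refine fix _ (fun i hi => ?_) ?_
      · show swap a b (swap b (g a) (g i)) = i
        rw [hg i hi, lowfix _ _ i (by simp [b]) (by omega) (by omega),
          lowfix _ _ i (by simp [a]) (by simp [b]) (by omega)]
      · show swap a b (swap b (g a) (g a)) = a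
        rw [swap_apply_right, swap_apply_right]
    have hgdec : g = swap b (g a) * (swap a b * (swap a b * swap b (g a) * g)) := by
      rw [← mul_assoc (swap a b), ← mul_assoc (swap a b), Equiv.swap_mul_self, one_mul, ← mul_assoc,
        Equiv.swap_mul_self, one_mul]
    rw [hgdec, map_mul, map_mul]
    exact h1.mul_left (hswap.mul_left h3)

/-- The image of a block depends on its points only. -/
theorem move_eq {k : ℕ} (hk : 2 ≤ k) (hk4 : k ≤ 4) (g g' : Perm (Fin n)) (κ κ' : Fin k ↪ Fin 4)
    (h : ∀ j, g (seg 0 4 n (by omega) (κ j)) = g' (seg 0 4 n (by omega) (κ' j))) (u : SU k F q) :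
    move ρ Ψ g (emb hF κ u) = move ρ Ψ g' (emb hF κ' u) := by
  have key : ∀ κ : Fin k ↪ Fin 4, ∃ c : Perm (Fin n), (∀ i : Fin n, 4 ≤ i.val → c i = i) ∧
      ∀ j, c (seg 0 4 n (by omega) (seg 0 k 4 (by omega) j)) = seg 0 4 n (by omega) (κ j) := by
    intro κ
    obtain ⟨σ, hσ⟩ := exists_perm_map (seg 0 k 4 (by omega)).injective κ.injective
    exact ⟨segPerm 0 4 n (by omega) σ, fun i hi => segPerm_apply_off _ _ _ _ _ _ (Or.inr (by omega)),
      fun j => by rw [segPerm_apply, hσ]⟩
  obtain ⟨c, hc, hcv⟩ := key κ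
  obtain ⟨c', hc', hcv'⟩ := key κ'
  have main : ∀ (g : Perm (Fin n)) (c : Perm (Fin n)) (κ : Fin k ↪ Fin 4),
      (∀ i : Fin n, 4 ≤ i.val → c i = i) →
      (∀ j, c (seg 0 4 n (by omega) (seg 0 k 4 (by omega) j)) = seg 0 4 n (by omega) (κ j)) →
      move ρ Ψ g (emb hF κ u) = move ρ Ψ (g * c) (emb hF (seg 0 k 4 (by omega)) u) := by
    intro g c κ hc hcv
    rw [move_mul, move_apply c, R.block_move c hc _ κ hcv, move_apply]
  rw [main g c κ hc hcv, main g' c' κ' hc' hcv']
  have hfix := R.stab hk hk4 ((g' * c')⁻¹ * (g * c)) (fun i hi => by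
    have e : i = seg 0 4 n (by omega) (seg 0 k 4 (by omega) ⟨i.val, hi⟩) := Fin.ext (by simp)
    rw [Perm.mul_apply, Perm.inv_eq_iff_eq, Perm.mul_apply, Perm.mul_apply, e, hcv, hcv', h]) u
  rw [move_apply, move_apply]
  have e : ρ (g * c) = ρ (g' * c') * ρ ((g' * c')⁻¹ * (g * c)) := by
    rw [← map_mul, mul_inv_cancel_left]
  rw [e, mul_assoc (ρ (g' * c')), hfix.eq]
  group

/-- Disjoint blocks commute, given one instance. -/
theorem disjoint_comm {k l : ℕ} (hk : 2 ≤ k) (hk4 : k ≤ 4) (hl : 2 ≤ l) (hl4 : l ≤ 4)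
    (hkl : k + l ≤ n) (σ : Perm (Fin n))
    (hσ : ∀ j : Fin l, (σ (seg 0 4 n (by omega) (seg 0 l 4 (by omega) j))).val = k + j.val)
    (hbase : ∀ u v, Commute (Ψ (emb hF (seg 0 k 4 (by omega)) u))
      (move ρ Ψ σ (emb hF (seg 0 l 4 (by omega)) v)))
    (g g' : Perm (Fin n)) (κ : Fin k ↪ Fin 4) (κ' : Fin l ↪ Fin 4)
    (hd : ∀ a b, g (seg 0 4 n (by omega) (κ a)) ≠ g' (seg 0 4 n (by omega) (κ' b)))
    (u : SU k F q) (v : SU l F q) :
    Commute (move ρ Ψ g (emb hF κ u)) (move ρ Ψ g' (emb hF κ' v)) := by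
  let f : Fin (k + l) → Fin n := Fin.append (fun a => g (seg 0 4 n (by omega) (κ a)))
    (fun b => g' (seg 0 4 n (by omega) (κ' b)))
  have hf : Function.Injective f := by
    intro x y e
    induction x using Fin.addCases <;> induction y using Fin.addCases <;> simp [f] at e ⊢
    · exact e
    · exact absurd e (hd _ _)
    · exact absurd e.symm (hd _ _)
    · exact e
  obtain ⟨c, hc⟩ := exists_perm_map (seg 0 (k + l) n (by omega)).injective hf
  rw [R.move_eq hk hk4 g c κ (seg 0 k 4 (by omega)) (fun a => by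
      have := hc (a.castAdd l)
      simp only [f, Fin.append_left] at this
      rw [← this]
      congr 1
      exact Fin.ext (by simp)) u,
    R.move_eq hl hl4 g' (c * σ) κ' (seg 0 l 4 (by omega)) (fun b => by
      have := hc (b.natAdd k)
      simp only [f, Fin.append_right] at this
      rw [← this, Perm.mul_apply]
      congr 1
      exact Fin.ext (by rw [hσ]; simp)) v, move_mul, move_apply]
  exact (hbase u v).map (MulAut.conj (ρ c)).toMonoidHom

/-- The glued group is `SUₙ(2)`. -/
theorem injective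
    (h32 : ∀ (g g' : Perm (Fin n)) (κ : Fin 3 ↪ Fin 4) (κ' : Fin 2 ↪ Fin 4),
      (∀ a b, g (seg 0 4 n (by omega) (κ a)) ≠ g' (seg 0 4 n (by omega) (κ' b))) →
      ∀ u v, Commute (move ρ Ψ g (emb hF κ u)) (move ρ Ψ g' (emb hF κ' v)))
    (h33 : 6 ≤ n → ∀ (g g' : Perm (Fin n)) (κ κ' : Fin 3 ↪ Fin 4),
      (∀ a b, g (seg 0 4 n (by omega) (κ a)) ≠ g' (seg 0 4 n (by omega) (κ' b))) →
      ∀ u v, Commute (move ρ Ψ g (emb hF κ u)) (move ρ Ψ g' (emb hF κ' v))) :
    Function.Injective θ := by
  classical
  set s := seg 0 4 n (by omega)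
  have win : ∀ i (hi : i + 4 ≤ n), ∃ g : Perm (Fin n), ∀ j, g (s j) = seg i 4 n hi j := fun i hi =>
    exists_perm_map s.injective (seg i 4 n hi).injective
  -- the induction
  have step : ∀ m, 4 ≤ m → ∀ hm : m ≤ n, ∃ Φ : SU m F q →* G, ∀ i (hi : i + 4 ≤ m) (g : Perm (Fin n)),
      (∀ j, g (s j) = seg i 4 n (by omega) j) → ∀ r, Φ (emb hF (seg i 4 m hi) r) = move ρ Ψ g r := by
    intro m
    induction m with
    | zero => omega
    | succ m ih =>
      intro h4 hm
      rcases Nat.eq_or_lt_of_le h4 with h | h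
      · obtain rfl : m = 3 := by omega
        refine ⟨Ψ, fun i hi g hg r => ?_⟩
        obtain rfl : i = 0 := by omega
        rw [emb_self hF _ (fun a => Fin.ext (Nat.zero_add _))]
        have := R.move_eq (k := 4) (by omega) le_rfl g 1 (Function.Embedding.refl _)
          (Function.Embedding.refl _) (fun j => hg j) r
        rw [emb_self hF _ (fun a => rfl)] at this
        rw [this, move_apply, map_one, inv_one, one_mul, mul_one]
      · obtain ⟨k, rfl⟩ : ∃ k, m = k + 3 := ⟨m - 3, by omega⟩
        obtain ⟨Φ, hΦ⟩ := ih (by omega) (by omega)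
        -- smaller blocks inside the image
        have small : ∀ l, 2 ≤ l → l ≤ 4 → ∀ i (hi : i + l ≤ k + 3) (g : Perm (Fin n))
            (κ : Fin l ↪ Fin 4), (∀ j, (g (s (κ j))).val = i + j.val) → ∀ u,
            Φ (emb hF (seg i l (k + 3) hi) u) = move ρ Ψ g (emb hF κ u) := by
          intro l hl hl4 i hi g κ hg u
          set i' := min i (k + 3 - 4) with hi'
          obtain ⟨g', hg'⟩ := win i' (by omega)
          have e : emb hF (seg i l (k + 3) hi) u = emb hF (seg i' 4 (k + 3) (by omega))
              (emb hF (seg (i - i') l 4 (by omega)) u) := by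
            rw [emb_emb]
            exact emb_congr' hF u fun a => by simp; omega
          rw [e, hΦ i' (by omega) g' hg']
          refine R.move_eq hl hl4 g' g _ κ (fun j => Fin.ext ?_) u
          rw [hg, hg']
          simp
          omega
        obtain ⟨γ, hγ⟩ := win k (by omega)
        have hγv : ∀ j, (γ (s j)).val = k + j.val := fun j => by rw [hγ]; simp
        have hag : ∀ y, move ρ Ψ γ (emb hF (seg 0 3 4 (by omega)) y) =
            Φ (emb hF (seg k 3 (k + 3) (by omega)) y) := fun y =>
          (small 3 (by omega) (by omega) k (by omega) γ _ (fun j => by rw [hγv]; simp) y).symm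
        -- the centralised elements
        have cent : ∀ (l : ℕ) (hl : 2 ≤ l) (hl' : l = 2 ∨ l = 3) (c : ℕ) (hc : c + l = k + 4)
            (hcn : l = 3 → c = 2 ∨ 3 ≤ c),
            2 ≤ c → ∀ a u, Commute (Φ (emb hF (seg 0 c (k + 3) (by omega)) a))
              (move ρ Ψ γ (emb hF (seg (4 - l) l 4 (by omega)) u)) := by
          intro l hl hl' c hc hcn h2c a u
          have hd : ∀ (i b : ℕ) (hib : i + b ≤ c) (g' : Perm (Fin n)) (κ' : Fin b ↪ Fin 4),
              (∀ j, (g' (s (κ' j))).val = i + j.val) →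
              ∀ x y, g' (s (κ' x)) ≠ γ (s (seg (4 - l) l 4 (by omega) y)) := by
            intro i b hib g' κ' hg' x y e
            have e' := congrArg Fin.val e
            rw [hg', hγv] at e'
            simp at e'
            omega
          rcases Nat.lt_or_ge c 3 with h3 | h3
          · obtain rfl : c = 2 := by omega
            obtain rfl : l = 3 := by omega
            obtain ⟨g', hg'⟩ := win 0 (by omega)
            have hv : ∀ j, (g' (s (seg 0 2 4 (by omega) j))).val = 0 + j.val := fun j => by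
              rw [hg']; simp
            rw [small 2 le_rfl (by omega) 0 (by omega) g' _ hv]
            exact (h32 γ g' _ _ (fun x y => (hd 0 2 le_rfl g' _ hv y x).symm) u a).symm
          · let Hc : Subgroup (SU c F q) :=
              (Subgroup.centralizer {move ρ Ψ γ (emb hF (seg (4 - l) l 4 (by omega)) u)}).comap
                (Φ.comp (emb hF (seg 0 c (k + 3) (by omega))))
            suffices ha : a ∈ Hc by
              rw [Subgroup.mem_comap, Subgroup.mem_centralizer_singleton_iff] at ha
              exact ha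
            rw [gen_triples hF c h3 Hc fun i hi z => ?_]
            · trivial
            rw [Subgroup.mem_comap, Subgroup.mem_centralizer_singleton_iff, MonoidHom.comp_apply,
              emb_emb, seg_trans i 3 0 c (k + 3) hi (by omega) (by omega)]
            obtain ⟨g', hg'⟩ := exists_perm_map (seg 0 3 n (by omega)).injective
              (seg i 3 n (by omega)).injective
            have hv : ∀ j, (g' (s (seg 0 3 4 (by omega) j))).val = i + j.val := fun j => by
              rw [show s (seg 0 3 4 (by omega) j) = seg 0 3 n (by omega) j from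
                Fin.ext (by simp [s]), hg']
              simp
            rw [small 3 (by omega) (by omega) (0 + i) (by omega) g' _ (fun j => by rw [hv]; omega)]
            have hdd := hd i 3 hi g' _ hv
            rcases hl' with rfl | rfl
            · exact h32 g' γ _ _ hdd z u
            · exact h33 (by omega) g' γ _ _ hdd z u
        obtain ⟨Φ', hΦA, hΦ4⟩ := exists_step hF (show 1 ≤ k by omega) Φ (move ρ Ψ γ) hag
          (fun a u => cent 2 le_rfl (Or.inl rfl) (k + 2) (by omega) (by simp) (by omega) a u)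
          (fun a u => cent 3 (by omega) (Or.inr rfl) (k + 1) (by omega) (by omega) (by omega) a u)
        refine ⟨Φ', fun i hi g hg r => ?_⟩
        rcases Nat.eq_or_lt_of_le hi with he | hlt
        · obtain rfl : i = k := by omega
          rw [hΦ4]
          have := R.move_eq (k := 4) (by omega) le_rfl γ g (Function.Embedding.refl _)
            (Function.Embedding.refl _) (fun j => (hγ j).trans (hg j).symm) r
          rwa [emb_self hF _ (fun a => rfl)] at this
        · rw [show emb hF (seg i 4 (k + 4) hi) r = emb hF (seg 0 (k + 3) (k + 4) (by omega))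
              (emb hF (seg i 4 (k + 3) (by omega)) r) by
            rw [emb_emb]; exact emb_congr' hF r fun a => by simp, hΦA, hΦ i (by omega) g hg r]
  obtain ⟨Φ, hΦ⟩ := step n (by omega) le_rfl
  have hret : ∀ a, θ (Φ a) = a := by
    let E : Subgroup (SU n F q) := (θ.comp Φ).eqLocus (MonoidHom.id _)
    suffices hE : E = ⊤ by
      intro a
      exact (hE ▸ Subgroup.mem_top a : a ∈ E)
    refine gen_triples hF n (by omega) E fun i hi z => ?_
    set i' := min i (n - 4) with hi'
    obtain ⟨g', hg'⟩ := win i' (by omega)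
    have e : emb hF (seg i 3 n hi) z = emb hF (seg i' 4 n (by omega))
        (emb hF (seg (i - i') 3 4 (by omega)) z) := by
      rw [emb_emb]
      exact emb_congr' hF z fun a => by simp; omega
    show θ (Φ _) = _
    rw [e, hΦ i' (by omega) g' hg', R.θmove]
    exact emb_congr' hF _ fun j => congrArg Fin.val (hg' j)
  have hsurj : Φ.range = ⊤ := by
    rw [eq_top_iff, ← R.hgen, sup_le_iff]
    constructor
    · obtain ⟨m, rfl⟩ : ∃ m, n = m + 1 := ⟨n - 1, by omega⟩
      rw [MonoidHom.range_eq_map, Subgroup.map_le_iff_le_comap]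
      intro p _
      have hp : p ∈ Submonoid.closure (Set.range fun i : Fin m => swap i.castSucc i.succ) := by
        rw [Perm.mclosure_swap_castSucc_succ]; trivial
      refine Submonoid.closure_induction ?_ (one_mem _) (fun _ _ _ _ => mul_mem) hp
      rintro _ ⟨i, rfl⟩
      show ρ (swap i.castSucc i.succ) ∈ Φ.range
      set i' := min i.val (m + 1 - 4) with hi'
      obtain ⟨g', hg'⟩ := win i' (by omega)
      set a : Fin (m + 1) := s ⟨i.val - i', by omega⟩ with ha
      set b : Fin (m + 1) := s ⟨i.val - i' + 1, by omega⟩ with hb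
      have hconj : g' * swap a b * g'⁻¹ = swap i.castSucc i.succ := by
        rw [mul_inv_eq_iff_eq_mul]
        refine Equiv.ext fun x => ?_
        have e1 : g' a = i.castSucc := by
          rw [ha, hg']; ext; simp; omega
        have e2 : g' b = i.succ := by
          rw [hb, hg']; ext; simp; omega
        rw [Perm.mul_apply, Perm.mul_apply, ← e1, ← e2]
        exact g'.injective.map_swap a b x |>.trans rfl
      have hlow : ∀ x : Fin (m + 1), 4 ≤ x.val → swap a b x = x := fun x hx =>
        swap_apply_of_ne_of_ne (fun e => by subst e; simp [ha, s] at hx; omega)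
          (fun e => by subst e; simp [hb, s] at hx; omega)
      obtain ⟨x, hx⟩ := exists_emb_permS hF h2 s (swap a b) fun y hy => hlow y (by
        by_contra hc
        exact hy ⟨y.val, by omega⟩ (Fin.ext (Nat.zero_add _)))
      rw [← hconj, map_mul, map_mul, map_inv, R.hA _ hlow x hx]
      exact ⟨_, hΦ i' (by omega) g' hg' x⟩
    · rintro _ ⟨x, rfl⟩
      refine ⟨emb hF (seg 0 4 n (by omega)) x, ?_⟩
      rw [hΦ 0 (by omega) 1 (fun j => rfl), move_apply, map_one, inv_one, one_mul, mul_one]
  intro x y hxy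
  obtain ⟨a, rfl⟩ := (MonoidHom.range_eq_top.1 hsurj) x
  obtain ⟨b, rfl⟩ := (MonoidHom.range_eq_top.1 hsurj) y
  rw [hret, hret] at hxy
  rw [hxy]

end GlueT

end Cfsg.Agent.H68.ShortUn
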