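import Cfsg.Agent.H68.ShortUn.PermSU

/-!
Generators of `SU₃(2)`: the cyclic permutation and two elements with all entries non-zero.
-/

set_option autoImplicit false
set_option linter.unusedSectionVars false

namespace Cfsg.Agent.H68.ShortUn

open Cfsg Matrix Cfsg.Agent.Unitary Cfsg.Agent.Cores.Phan

variable {F : Type*} [Field F] [Fintype F]

theorem char_two (hF : Fintype.card F = 2 ^ 2) : (2 : F) = 0 := by
  have := natCast_q_eq_zero hF
  rwa [Nat.cast_ofNat] at this

theorem cube_eq_one (hF : Fintype.card F = 2 ^ 2) {x : F} (hx : x ≠ 0) : x ^ 3 = 1 := by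
  have := FiniteField.pow_card_sub_one_eq_one x hx
  rwa [hF] at this

theorem exists_omega (hF : Fintype.card F = 2 ^ 2) :
    ∃ w : F, w ^ 2 = w + 1 ∧ ∀ x : F, x ≠ 0 → x = 1 ∨ x = w ∨ x = w ^ 2 := by
  classical
  have h2 := char_two hF
  obtain ⟨w, -, hw0, hw1⟩ : ∃ w : F, w ∈ (Finset.univ : Finset F) ∧ w ≠ 0 ∧ w ≠ 1 := by
    by_contra hc
    push Not at hc
    have hsub : (Finset.univ : Finset F) ⊆ {0, 1} := fun x hx => by
      rcases eq_or_ne x 0 with h | h
      · simp [h]
      · simp [hc x hx h]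
    have := Finset.card_le_card hsub
    rw [Finset.card_univ, hF] at this
    exact absurd (this.trans Finset.card_le_two) (by norm_num)
  have hsq : ∀ x : F, x ≠ 0 → x ≠ 1 → x ^ 2 = x + 1 := fun x h0 h1 => by
    have e : (x - 1) * (x ^ 2 + x + 1) = 0 := by linear_combination cube_eq_one hF h0
    rcases mul_eq_zero.1 e with e | e
    · exact absurd (sub_eq_zero.1 e) h1
    · linear_combination e - (x + 1) * h2
  refine ⟨w, hsq w hw0 hw1, fun x hx => ?_⟩
  by_cases h1 : x = 1
  · exact Or.inl h1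
  have e : (x - w) * (x - w ^ 2) = 0 := by
    have := hsq x hx h1
    have := hsq w hw0 hw1
    linear_combination hsq x hx h1 + (w - x + 1) * hsq w hw0 hw1 + (w + 1 - x * w) * h2
  rcases mul_eq_zero.1 e with e | e
  · exact Or.inr (Or.inl (sub_eq_zero.1 e))
  · exact Or.inr (Or.inr (sub_eq_zero.1 e))

/-- `SU₃(2)` is generated by a cyclic permutation and two further elements. -/
theorem exists_su_three_gens (hF : Fintype.card F = 2 ^ 2) :
    ∃ a b t : SU 3 F 2, mat t = !![0, 0, 1; 1, 0, 0; 0, 1, 0] ∧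
      Subgroup.closure ({t, a, b} : Set (SU 3 F 2)) = ⊤ := by
  obtain ⟨w, hw2, htri⟩ := exists_omega hF
  have h2 := char_two hF
  have hw3 : w ^ 3 = 1 := by linear_combination (w + 1) * hw2 + w * h2
  have hw0 : w ≠ 0 := fun h => by rw [h] at hw3; simp at hw3
  have mk : ∀ M : Matrix (Fin 3) (Fin 3) F, Mᵀ * M.map (fun x => x ^ 2) = 1 → M.det = 1 →
      ∃ g : SU 3 F 2, mat g = M := fun M h hd =>
    ⟨toSU ((preserves_iff_transpose_mul hF).2 h) hd, rfl⟩
  obtain ⟨t, ht⟩ := mk !![0, 0, 1; 1, 0, 0; 0, 1, 0]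
    (by ext i j; fin_cases i <;> fin_cases j <;> simp [Matrix.mul_apply, Fin.sum_univ_three])
    (by simp [Matrix.det_fin_three])
  obtain ⟨a, ha⟩ := mk !![1, 1, 1; 1, w, w ^ 2; 1, w ^ 2, w]
    (by
      ext i j
      fin_cases i <;> fin_cases j <;> simp [Matrix.mul_apply, Fin.sum_univ_three] <;> grind)
    (by simp [Matrix.det_fin_three]; grind)
  obtain ⟨b, hb⟩ := mk !![1, 1, w ^ 2; 1, w, w; w, 1, w]
    (by
      ext i j
      fin_cases i <;> fin_cases j <;> simp [Matrix.mul_apply, Fin.sum_univ_three] <;> grind)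
    (by simp [Matrix.det_fin_three]; grind)
  have hD : ∀ x y : F, x ≠ 0 → y ≠ 0 → ∃ g : SU 3 F 2, mat g = !![x, 0, 0; 0, y, 0; 0, 0, (x * y)⁻¹] := by
    intro x y hx hy
    refine mk _ ?_ ?_
    · have := cube_eq_one hF hx
      have := cube_eq_one hF hy
      ext i j
      fin_cases i <;> fin_cases j <;> simp [Matrix.mul_apply, Fin.sum_univ_three] <;> grind
    · simp [Matrix.det_fin_three]
      field_simp
  refine ⟨a, b, t, ht, ?_⟩
  set H := Subgroup.closure ({t, a, b} : Set (SU 3 F 2))
  have htH : t ∈ H := Subgroup.subset_closure (by simp)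
  have haH : a ∈ H := Subgroup.subset_closure (by simp)
  have hbH : b ∈ H := Subgroup.subset_closure (by simp)
  -- the diagonal
  obtain ⟨N, hN⟩ := hD 1 (w ^ 2) one_ne_zero (pow_ne_zero _ hw0)
  have hNH : N ∈ H := by
    have e : a * N = t * a := by
      refine ext_mat ?_
      rw [mat_mul, mat_mul, ha, hN, ht]
      ext i j
      fin_cases i <;> fin_cases j <;> simp [Matrix.mul_apply, Fin.sum_univ_three] <;> grind
    rw [← inv_mul_cancel_left a N, e]
    exact mul_mem (inv_mem haH) (mul_mem htH haH)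
  obtain ⟨S, hS⟩ := hD (w ^ 2) (w ^ 2) (pow_ne_zero _ hw0) (pow_ne_zero _ hw0)
  have hSH : S ∈ H := by
    have e : t * (S * N) = N * t := by
      refine ext_mat ?_
      rw [mat_mul, mat_mul, mat_mul, hS, hN, ht]
      ext i j
      fin_cases i <;> fin_cases j <;> simp [Matrix.mul_apply, Fin.sum_univ_three] <;> grind
    rw [← mul_inv_cancel_right S N, ← inv_mul_cancel_left t (S * N), e]
    exact mul_mem (mul_mem (inv_mem htH) (mul_mem hNH htH)) (inv_mem hNH)
  have diag : ∀ x y : F, x ≠ 0 → y ≠ 0 → ∀ g : SU 3 F 2,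
      mat g = !![x, 0, 0; 0, y, 0; 0, 0, (x * y)⁻¹] → g ∈ H := by
    intro x y hx hy g hg
    have hp : ∀ z : F, z ≠ 0 → ∃ i : ℕ, z = (w ^ 2) ^ i := fun z hz => by
      rcases htri z hz with rfl | rfl | rfl
      · exact ⟨0, by simp⟩
      · exact ⟨2, by rw [← pow_mul]; grind⟩
      · exact ⟨1, by simp⟩
    obtain ⟨j, hj⟩ := hp x hx
    obtain ⟨i, hi⟩ := hp (y / x) (div_ne_zero hy hx)
    have hpow : ∀ (h : SU 3 F 2) (u v : F), mat h = !![u, 0, 0; 0, v, 0; 0, 0, (u * v)⁻¹] →
        ∀ n : ℕ, mat (h ^ n) = !![u ^ n, 0, 0; 0, v ^ n, 0; 0, 0, (u ^ n * v ^ n)⁻¹] := by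
      intro h u v hh n
      induction n with
      | zero =>
        rw [pow_zero]
        show (1 : Matrix (Fin 3) (Fin 3) F) = _
        ext a b
        fin_cases a <;> fin_cases b <;> simp
      | succ n ih =>
        rw [pow_succ, mat_mul, ih, hh]
        ext a b
        fin_cases a <;> fin_cases b <;>
          simp [Matrix.mul_apply, Fin.sum_univ_three, pow_succ] <;> ring
    have e : g = S ^ j * N ^ i := by
      refine ext_mat ?_
      have hy' : y = (w ^ 2) ^ j * (w ^ 2) ^ i := by rw [← hj, ← hi]; field_simp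
      rw [mat_mul, hpow S _ _ hS, hpow N _ _ hN, hg, one_pow, one_mul, hj, hy']
      ext a b
      fin_cases a <;> fin_cases b <;>
        simp [Matrix.mul_apply, Fin.sum_univ_three] <;> ring
    rw [e]
    exact mul_mem (pow_mem hSH j) (pow_mem hNH i)
  have hperm : ∃ s ∈ H, mat s = !![0, 1, 0; 1, 0, 0; 0, 0, 1] := by
    have e : mat (a * a) = !![1, 0, 0; 0, 0, 1; 0, 1, 0] := by
      rw [mat_mul, ha]
      ext i j
      fin_cases i <;> fin_cases j <;> simp [Matrix.mul_apply, Fin.sum_univ_three] <;> grind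
    refine ⟨t * (a * a), mul_mem htH (mul_mem haH haH), ?_⟩
    rw [mat_mul, e, ht]
    ext i j
    fin_cases i <;> fin_cases j <;> simp [Matrix.mul_apply, Fin.sum_univ_three]
  obtain ⟨s, hsH, hs⟩ := hperm
  have hap : ∀ (g : SU 3 F 2) (v : Fin 3 → F), ap g v = mat g *ᵥ v := fun _ _ => rfl
  -- transitivity on unit vectors
  let e2 : Fin 3 → F := ![0, 0, 1]
  let O : (Fin 3 → F) → Prop := fun v => ∃ h ∈ H, ap h e2 = v
  have hO : ∀ {v}, O v → ∀ g ∈ H, O (ap g v) := fun ⟨h, hh, e⟩ g hg =>
    ⟨g * h, mul_mem hg hh, by rw [ap_mul, e]⟩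
  have hOi : ∀ {v}, ∀ g ∈ H, O (ap g v) → O v := fun {v} g hg h => by
    have := hO h g⁻¹ (inv_mem hg)
    rwa [ap_inv_ap] at this
  have o2 : O e2 := ⟨1, one_mem _, ap_one _⟩
  have o0 : O ![1, 0, 0] := by
    convert hO o2 t htH using 1
    rw [hap, ht]; ext i; fin_cases i <;> simp [e2, Matrix.mulVec, dotProduct, Fin.sum_univ_three]
  have o1 : O ![0, 1, 0] := by
    convert hO o0 t htH using 1
    rw [hap, ht]; ext i; fin_cases i <;> simp [Matrix.mulVec, dotProduct, Fin.sum_univ_three]
  have p1 : O ![1, 1, 1] := by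
    convert hO o0 a haH using 1
    rw [hap, ha]; ext i; fin_cases i <;> simp [Matrix.mulVec, dotProduct, Fin.sum_univ_three]
  have pw : O ![1, 1, w] := by
    convert hO o0 b hbH using 1
    rw [hap, hb]; ext i; fin_cases i <;> simp [Matrix.mulVec, dotProduct, Fin.sum_univ_three]
  have pw2 : O ![1, 1, w ^ 2] := by
    have h1 := hO pw a haH
    obtain ⟨D, hDm⟩ := hD (w ^ 2) (w ^ 2) (pow_ne_zero _ hw0) (pow_ne_zero _ hw0)
    convert hO h1 D (diag _ _ (pow_ne_zero _ hw0) (pow_ne_zero _ hw0) D hDm) using 1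
    rw [hap, hap, hDm, ha]
    ext i
    fin_cases i <;> simp [Matrix.mulVec, dotProduct, Fin.sum_univ_three] <;> grind
  have move : ∀ v : Fin 3 → F, hermForm 3 F 2 v v = 1 → O v := by
    intro v hv
    classical
    have hn : ∀ x : F, x * x ^ 2 = if x = 0 then 0 else 1 := fun x => by
      by_cases hx : x = 0
      · simp [hx]
      · rw [if_neg hx, ← pow_succ', cube_eq_one hF hx]
    simp only [hermForm, Fin.sum_univ_three, hn] at hv
    obtain ⟨x, y, z, rfl⟩ : ∃ x y z, v = ![x, y, z] :=
      ⟨v 0, v 1, v 2, by ext i; fin_cases i <;> rfl⟩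
    simp only [Matrix.cons_val_zero, Matrix.cons_val_one, Matrix.cons_val] at hv
    by_cases hx : x = 0
    · subst hx
      by_cases hy : y = 0
      · subst hy
        by_cases hz : z = 0
        · subst hz; simp at hv
        · -- the third axis
          obtain ⟨D, hDm⟩ := hD z⁻¹ 1 (inv_ne_zero hz) one_ne_zero
          convert hO o2 D (diag _ _ (inv_ne_zero hz) one_ne_zero D hDm) using 1
          rw [hap, hDm]; ext i
          fin_cases i <;> simp [e2, Matrix.mulVec, dotProduct, Fin.sum_univ_three]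
      · by_cases hz : z = 0
        · subst hz
          obtain ⟨D, hDm⟩ := hD 1 y one_ne_zero hy
          convert hO o1 D (diag _ _ one_ne_zero hy D hDm) using 1
          rw [hap, hDm]; ext i
          fin_cases i <;> simp [Matrix.mulVec, dotProduct, Fin.sum_univ_three]
        · simp [hy, hz] at hv
    · by_cases hy : y = 0
      · subst hy
        by_cases hz : z = 0
        · subst hz
          obtain ⟨D, hDm⟩ := hD x 1 hx one_ne_zero
          convert hO o0 D (diag _ _ hx one_ne_zero D hDm) using 1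
          rw [hap, hDm]; ext i
          fin_cases i <;> simp [Matrix.mulVec, dotProduct, Fin.sum_univ_three]
        · simp [hx, hz] at hv
      · by_cases hz : z = 0
        · subst hz
          simp [hx, hy] at hv
        · obtain ⟨D, hDm⟩ := hD x y hx hy
          have hp : O ![1, 1, x * y * z] := by
            rcases htri (x * y * z) (mul_ne_zero (mul_ne_zero hx hy) hz) with h | h | h <;> rw [h]
            exacts [p1, pw, pw2]
          convert hO hp D (diag _ _ hx hy D hDm) using 1
          rw [hap, hDm]; ext i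
          fin_cases i <;> simp [Matrix.mulVec, dotProduct, Fin.sum_univ_three] <;> field_simp
  rw [eq_top_iff]
  intro g _
  have hu : ∀ i : Fin 3, hermForm 3 F 2 (Pi.single i 1) (Pi.single i 1) = 1 := fun i => by
    rw [herm_single_single hF, if_pos rfl]
  have he2 : e2 = Pi.single 2 1 := by ext i; fin_cases i <;> simp [e2]
  obtain ⟨h, hh, he⟩ := move (ap g e2) (by rw [herm_ap, he2, hu])
  suffices h1 : h⁻¹ * g ∈ H by simpa using mul_mem hh h1
  have hg2 : ap (h⁻¹ * g) e2 = e2 := by rw [ap_mul, ← he, ap_inv_ap]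
  generalize h⁻¹ * g = k at hg2 ⊢
  -- the stabiliser
  set u := ap k (Pi.single 0 1) with hu_def
  have hu2 : u 2 = 0 := by
    have h := herm_ap k (Pi.single 0 1) e2
    rw [hg2, he2, herm_single_right hF, herm_single_right hF, one_pow, mul_one, mul_one] at h
    simpa [hu_def] using h
  have huu : hermForm 3 F 2 u u = 1 := by rw [herm_ap, hu]
  have fix0 : ∀ k : SU 3 F 2, ap k e2 = e2 → ∀ x : F, ap k (Pi.single 0 1) = ![x, 0, 0] → k ∈ H := by
    intro k hk x hx
    have hx0 : x ≠ 0 := by
      rintro rfl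
      have := herm_ap k (Pi.single 0 1) (Pi.single 0 1)
      rw [hx, hu] at this
      simp [hermForm, Fin.sum_univ_three] at this
    obtain ⟨D, hDm⟩ := hD x⁻¹ x (inv_ne_zero hx0) hx0
    have hDH := diag _ _ (inv_ne_zero hx0) hx0 D hDm
    rw [← H.mul_mem_cancel_left hDH]
    obtain ⟨c, hc⟩ := exists_emb_eq hF (seg 1 1 3 (by omega)) (g := D * k) fun i hi => by
      fin_cases i
      · show ap (D * k) (Pi.single 0 1) = Pi.single 0 1
        rw [ap_mul, hx, hap, hDm]
        ext i
        fin_cases i <;> simp [Matrix.mulVec, dotProduct, Fin.sum_univ_three, hx0]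
      · exact absurd rfl (hi 0)
      · show ap (D * k) (Pi.single 2 1) = Pi.single 2 1
        rw [← he2, ap_mul, hk, hap, hDm]
        ext i
        fin_cases i <;> simp [e2, Matrix.mulVec, dotProduct, Fin.sum_univ_three, hx0]
    have : c = 1 := by
      refine ext_mat ?_
      ext i j
      have hd := (c : SpecialLinearGroup (Fin 1) F).2
      rw [Matrix.det_unique] at hd
      rw [Subsingleton.elim i default, Subsingleton.elim j default]
      exact hd
    rw [← hc, this, map_one]
    exact one_mem H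
  by_cases h0 : u 1 = 0
  · exact fix0 k hg2 (u 0) (by rw [← hu_def]; ext i; fin_cases i <;> simp [h0, hu2])
  · have h00 : u 0 = 0 := by
      by_contra hne
      simp only [hermForm, Fin.sum_univ_three, hu2, ← pow_succ', cube_eq_one hF hne,
        cube_eq_one hF h0] at huu
      simp at huu
    rw [← H.mul_mem_cancel_left hsH]
    refine fix0 (s * k) ?_ (u 1) ?_
    · rw [ap_mul, hg2, hap, hs]
      ext i
      fin_cases i <;> simp [e2, Matrix.mulVec, dotProduct, Fin.sum_univ_three]
    · rw [ap_mul, ← hu_def, hap, hs]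
      ext i
      fin_cases i <;> simp [h00, hu2, Matrix.mulVec, dotProduct, Fin.sum_univ_three]

end Cfsg.Agent.H68.ShortUn
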