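import Cfsg.Agent.H68.ShortUn.GlueTwo
import Cfsg.Agent.H68.ShortUn.ThreeTwo
import Cfsg.Agent.H68.ShortUn.Combine
import Cfsg.Agent.H68.ShortU4.Pres
import Cfsg.Agent.H68.ShortAlt.Main
import Cfsg.Agent.H55.SUTwoGen

/-!
The presentation of `SUₙ(2)` for `n ≥ 5`.
-/

set_option autoImplicit false
set_option linter.unusedSectionVars false

namespace Cfsg.Agent.H68.ShortUn

open Cfsg Matrix Equiv Cfsg.Agent.Unitary Cfsg.Agent.Cores.Phan Cfsg.Agent.H99.BoundedPres

section

variable {n : ℕ}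

/-- The three-cycle of the first three points. -/
def cyc (hn : 5 ≤ n) : Perm (Fin n) := segPerm 0 3 n (by omega) (finRotate 3)

theorem cyc_fix (hn : 5 ≤ n) (x : Fin n) (hx : 3 ≤ x.val) : cyc hn x = x :=
  segPerm_apply_off _ _ _ _ _ _ (Or.inr (by omega))

end

variable {F : Type*} [Field F] [Fintype F] {n k q : ℕ} {G : Type*} [Group G]

theorem ap_permS (hF : Fintype.card F = q ^ 2) (h2 : q = 2) (g : Perm (Fin n)) (x : Fin n) :
    ap (permS hF h2 g) (Pi.single x 1 : Fin n → F) = Pi.single (g x) 1 := by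
  rw [permS, ap_def, mat_permHom, inj_mulVec_single]
  rfl

theorem permS_segPerm (hF : Fintype.card F = q ^ 2) (h2 : q = 2) (a k n : ℕ) (h : a + k ≤ n)
    (g : Perm (Fin k)) :
    permS hF h2 (segPerm a k n h g) = emb hF (seg a k n h) (permS hF h2 g) := by
  refine ext_mat (Matrix.ext_of_mulVec_single fun x => ?_)
  show ap (permS hF h2 _) (Pi.single x 1 : Fin n → F) = ap (emb hF _ _) (Pi.single x 1)
  by_cases hx : ∃ j, seg a k n h j = x
  · obtain ⟨j, rfl⟩ := hx
    rw [ap_permS, segPerm_apply, ← inj_mulVec_single (seg a k n h) j 1, ap_emb_on, ap_permS,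
      inj_mulVec_single]
  · push Not at hx
    rw [ap_permS, segPerm_apply_off _ _ _ _ _ _ ?_, ap_emb_off hF _ _ fun j => Pi.single_eq_of_ne (hx j) _]
    by_contra hc
    push Not at hc
    exact hx ⟨x.val - a, by omega⟩ (Fin.ext (show a + (x.val - a) = x.val by omega))

theorem su_three_gens_perm (hF : Fintype.card F = q ^ 2) (h2 : q = 2) :
    ∃ a b : SU 3 F q,
      Subgroup.closure ({permS hF h2 (finRotate 3), a, b} : Set (SU 3 F q)) = ⊤ := by
  subst h2
  obtain ⟨a, b, t, ht, hgen⟩ := exists_su_three_gens hF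
  refine ⟨a, b, ?_⟩
  suffices e : permS hF rfl (finRotate 3) = t by rw [e, hgen]
  refine ext_mat ?_
  rw [permS, mat_permHom, ht]
  ext i j
  fin_cases i <;> fin_cases j <;> simp [inj]

variable {hF : Fintype.card F = q ^ 2} {h2 : q = 2} {hn : 5 ≤ n} {ρ : Perm (Fin n) →* G}
  {Ψ : SU 4 F q →* G} {θ : G →* SU n F q}

theorem comm_move (g σ : Perm (Fin n)) (x : SU 4 F q)
    (h : Commute (ρ (σ⁻¹ * g * σ)) (Ψ x)) : Commute (ρ g) (move ρ Ψ σ x) := by
  have := h.map (MulAut.conj (ρ σ)).toMonoidHom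
  have e : (MulAut.conj (ρ σ)).toMonoidHom (ρ (σ⁻¹ * g * σ)) = ρ g := by
    show ρ σ * ρ (σ⁻¹ * g * σ) * (ρ σ)⁻¹ = ρ g
    rw [← map_inv, ← map_mul, ← map_mul]
    congr 1
    group
  rwa [e] at this

theorem GlueT.ρ_cyc (R : GlueT hF h2 hn ρ Ψ θ) :
    ρ (cyc hn) = Ψ (emb hF (seg 0 3 4 (by omega)) (permS hF h2 (finRotate 3))) := by
  refine R.hA _ (fun i hi => cyc_fix hn i (by omega)) _ ?_
  rw [emb_emb, cyc, permS_segPerm]
  exact emb_congr' hF _ fun j => by simp

theorem mem_closure_three (H : Subgroup (SU 3 F q)) {a b c : SU 3 F q}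
    (hgen : Subgroup.closure ({c, a, b} : Set (SU 3 F q)) = ⊤) (hc : c ∈ H) (ha : a ∈ H)
    (hb : b ∈ H) (z : SU 3 F q) : z ∈ H := by
  have : Subgroup.closure ({c, a, b} : Set (SU 3 F q)) ≤ H := by
    rw [Subgroup.closure_le]
    rintro x (rfl | rfl | rfl) <;> assumption
  exact this (hgen ▸ Subgroup.mem_top z)

theorem commute_of_gens {K : Type*} [Group K] (f : K →* G) (y : G) {s : Set K}
    (hs : Subgroup.closure s = ⊤) (h : ∀ x ∈ s, Commute (f x) y) (x : K) : Commute (f x) y := by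
  have : Subgroup.closure s ≤ (Subgroup.centralizer {y}).comap f := by
    rw [Subgroup.closure_le]
    intro x hx
    rw [SetLike.mem_coe, Subgroup.mem_comap, Subgroup.mem_centralizer_singleton_iff]
    exact h x hx
  have := this (hs ▸ Subgroup.mem_top x)
  rw [Subgroup.mem_comap, Subgroup.mem_centralizer_singleton_iff] at this
  exact this

/-- The structure follows from the relations on generators. -/
theorem glue_of_rels {f4 : Fin 2 → Perm (Fin 4)} (hf4 : Subgroup.closure (Set.range f4) = ⊤)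
    (hθρ : θ.comp ρ = permS hF h2) (hθΨ : θ.comp Ψ = emb hF (seg 0 4 n (by omega)))
    (hgen : ρ.range ⊔ Ψ.range = ⊤) (X : Fin 2 → SU 4 F q)
    (hX : ∀ i, emb hF (seg 0 4 n (by omega)) (X i) =
      permS hF h2 (segPerm 0 4 n (by omega) (f4 i)))
    (relA : ∀ i, ρ (segPerm 0 4 n (by omega) (f4 i)) = Ψ (X i))
    (hB : ∀ g : Perm (Fin n), (∀ i : Fin n, i.val < 4 → g i = i) → ∀ x, Commute (ρ g) (Ψ x))
    {a b : SU 3 F q}
    (hab : Subgroup.closure ({permS hF h2 (finRotate 3), a, b} : Set (SU 3 F q)) = ⊤)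
    (hCa : Commute (ρ (swap ⟨3, by omega⟩ ⟨4, by omega⟩)) (Ψ (emb hF (seg 0 3 4 (by omega)) a)))
    (hCb : Commute (ρ (swap ⟨3, by omega⟩ ⟨4, by omega⟩)) (Ψ (emb hF (seg 0 3 4 (by omega)) b))) :
    GlueT hF h2 hn ρ Ψ θ := by
  have hA : ∀ g : Perm (Fin n), (∀ i : Fin n, 4 ≤ i.val → g i = i) →
      ∀ x : SU 4 F q, emb hF (seg 0 4 n (by omega)) x = permS hF h2 g → ρ g = Ψ x := by
    intro g hg x hx
    obtain ⟨g', rfl⟩ := exists_segPerm 0 4 n (by omega) g fun y hy => hg y (by omega)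
    clear hg
    let M : Subgroup (Perm (Fin 4)) :=
      { carrier := {g | ∃ x, emb hF (seg 0 4 n (by omega)) x =
          permS hF h2 (segPerm 0 4 n (by omega) g) ∧ ρ (segPerm 0 4 n (by omega) g) = Ψ x}
        one_mem' := ⟨1, by simp, by simp⟩
        mul_mem' := by
          rintro g g' ⟨x, hx, hx'⟩ ⟨y, hy, hy'⟩
          exact ⟨x * y, by rw [map_mul, map_mul, map_mul, hx, hy],
            by rw [map_mul, map_mul, map_mul, hx', hy']⟩
        inv_mem' := by
          rintro g ⟨x, hx, hx'⟩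
          exact ⟨x⁻¹, by rw [map_inv, map_inv, map_inv, hx], by rw [map_inv, map_inv, map_inv, hx']⟩ }
    obtain ⟨y, hy, hy'⟩ : g' ∈ M := by
      have : Subgroup.closure (Set.range f4) ≤ M := by
        rw [Subgroup.closure_le]
        rintro _ ⟨i, rfl⟩
        exact ⟨X i, hX i, relA i⟩
      exact this (hf4 ▸ Subgroup.mem_top g')
    rw [hy', emb_injective hF _ (hy.trans hx.symm)]
  refine ⟨hθρ, hθΨ, hgen, hA, hB, fun z => (commute_of_gens
    (Ψ.comp (emb hF (seg 0 3 4 (by omega)))) _ hab (fun x hx => ?_) z).symm⟩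
  rcases hx with rfl | rfl | rfl
  · have e : ρ (cyc hn) = Ψ (emb hF (seg 0 3 4 (by omega)) (permS hF h2 (finRotate 3))) := by
      refine hA _ (fun i hi => cyc_fix hn i (by omega)) _ ?_
      rw [emb_emb, cyc, permS_segPerm]
      exact emb_congr' hF _ fun j => by simp
    show Commute (Ψ _) _
    rw [← e]
    refine Commute.map ?_ ρ
    refine Perm.Disjoint.commute fun x => ?_
    by_cases hx : 3 ≤ x.val
    · exact Or.inl (cyc_fix hn x hx)
    · exact Or.inr (swap_apply_of_ne_of_ne (fun e => hx (by rw [e])) (fun e => hx (by rw [e]; simp)))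
  · exact hCa.symm
  · exact hCb.symm

/-- The base commutation with a conjugate block. -/
theorem GlueT.base (R : GlueT hF h2 hn ρ Ψ θ) {l : ℕ} (hl : 2 ≤ l) (hl3 : l ≤ 3) (σ : Perm (Fin n))
    (hσ : ∀ j : Fin n, j.val < l → 3 ≤ (σ j).val) {a b : SU 3 F q}
    (hab : Subgroup.closure ({permS hF h2 (finRotate 3), a, b} : Set (SU 3 F q)) = ⊤)
    (ha : ∀ v, Commute (Ψ (emb hF (seg 0 3 4 (by omega)) a))
      (move ρ Ψ σ (emb hF (seg 0 l 4 (by omega)) v)))
    (hb : ∀ v, Commute (Ψ (emb hF (seg 0 3 4 (by omega)) b))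
      (move ρ Ψ σ (emb hF (seg 0 l 4 (by omega)) v))) (u : SU 3 F q) (v : SU l F q) :
    Commute (Ψ (emb hF (seg 0 3 4 (by omega)) u))
      (move ρ Ψ σ (emb hF (seg 0 l 4 (by omega)) v)) := by
  refine commute_of_gens (Ψ.comp (emb hF (seg 0 3 4 (by omega)))) _ hab (fun x hx => ?_) u
  rcases hx with rfl | rfl | rfl
  · show Commute (Ψ _) _
    rw [← R.ρ_cyc]
    refine comm_move _ σ _ (R.stab hl (by omega) _ (fun i hi => ?_) v)
    rw [Perm.mul_apply, Perm.mul_apply, cyc_fix hn _ (hσ i hi), Perm.inv_eq_iff_eq]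
  · exact ha v
  · exact hb v

/-- Six or more points. -/
theorem hasPres_su_two_big (hF : Fintype.card F = q ^ 2) (h2 : q = 2) (hn : 6 ≤ n) :
    HasPres (SU n F q) 6 38 := by
  classical
  have hn5 : 5 ≤ n := by omega
  obtain ⟨a, b, hab⟩ := su_three_gens_perm (F := F) hF h2
  obtain ⟨f4, -, -, hf4, -, -⟩ := ShortAlt.hasPres_perm 4
  obtain ⟨f', -, -, hf', -, -⟩ := ShortAlt.hasPres_perm (n - 4)
  obtain ⟨u, v, huv⟩ := H55.SUTwoGen.exists_two_large (F := F) (n := 4) hF le_rfl (fun _ => by omega)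
  have hsl : HasPres (Matrix.SpecialLinearGroup (Fin 2) F) 3 5 := by
    refine (SpPres.hasPres_sl_two (F := F)).2 ((CharP.charP_iff_prime_eq_zero Nat.prime_two).2 ?_)
    subst h2
    exact_mod_cast char_two hF
  obtain ⟨σ, hσ⟩ := exists_perm_map (seg 0 3 n (by omega)).injective (seg 3 3 n (by omega)).injective
  let C : Fin 2 → Perm (Fin n) := fun i => segPerm 0 4 n (by omega) (f4 i)
  let D : Fin 2 → Perm (Fin n) := fun i => segPerm 4 (n - 4) n (by omega) (f' i)
  let s34 : Perm (Fin n) := swap ⟨3, by omega⟩ ⟨4, by omega⟩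
  let L : Fin 2 → SU 4 F q := fun i => emb hF (seg 0 3 4 (by omega)) (![a, b] i)
  have hCx : ∀ i, ∃ x : SU 4 F q, emb hF (seg 0 4 n (by omega)) x = permS hF h2 (C i) := fun i =>
    ⟨_, (permS_segPerm hF h2 0 4 n (by omega) (f4 i)).symm⟩
  choose X hX using hCx
  let iW : Perm (Fin n) →* Monoid.Coprod (Perm (Fin n)) (SU 4 F q) := Monoid.Coprod.inl
  let iV : SU 4 F q →* Monoid.Coprod (Perm (Fin n)) (SU 4 F q) := Monoid.Coprod.inr
  let E : List (Monoid.Coprod (Perm (Fin n)) (SU 4 F q) ×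
      Monoid.Coprod (Perm (Fin n)) (SU 4 F q)) :=
    List.ofFn (fun i : Fin 2 => (iW (C i), iV (X i))) ++
    List.ofFn (fun p : Fin 4 =>
      (iW (D (![0, 0, 1, 1] p)) * iV (![u, v] (![0, 1, 0, 1] p)),
        iV (![u, v] (![0, 1, 0, 1] p)) * iW (D (![0, 0, 1, 1] p)))) ++
    List.ofFn (fun i : Fin 2 => (iW s34 * iV (L i), iV (L i) * iW s34)) ++
    List.ofFn (fun p : Fin 4 =>
      (iV (L (![0, 0, 1, 1] p)) * (iW σ * iV (L (![0, 1, 0, 1] p)) * (iW σ)⁻¹),
        iW σ * iV (L (![0, 1, 0, 1] p)) * (iW σ)⁻¹ * iV (L (![0, 0, 1, 1] p))))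
  have hσv : ∀ j : Fin n, j.val < 3 → (σ j).val = 3 + j.val := fun j hj => by
    have := hσ ⟨j.val, hj⟩
    rw [show seg 0 3 n (by omega) ⟨j.val, hj⟩ = j from Fin.ext (Nat.zero_add _)] at this
    rw [this]
    rfl
  refine hasPres_glue (ShortAlt.hasPres_perm n) (ShortU4.hasPres_su_four_of hF hsl) (permS hF h2)
    (emb hF (seg 0 4 n (by omega))) ?_ E (by simp [E]) ?_ ?_
  · -- generation
    set H := (permS (n := n) (F := F) hF h2).range ⊔ (emb hF (seg 0 4 n (by omega))).range
    refine gen_triples hF n (by omega) H fun i hi z => ?_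
    obtain ⟨g, hg⟩ := exists_perm_map (seg 0 3 n (by omega)).injective (seg i 3 n hi).injective
    have e : emb hF (seg i 3 n hi) z = permS hF h2 g *
        emb hF (seg 0 4 n (by omega)) (emb hF (seg 0 3 4 (by omega)) z) * (permS hF h2 g)⁻¹ := by
      rw [emb_emb, permS_conj]
      refine emb_congr' hF z fun j => ?_
      rw [← hg j]
      show _ = (g _).val
      congr 2
      exact Fin.ext (by simp)
    rw [e]
    exact mul_mem (mul_mem (Subgroup.mem_sup_left ⟨g, rfl⟩) (Subgroup.mem_sup_right ⟨_, rfl⟩))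
      (inv_mem (Subgroup.mem_sup_left ⟨g, rfl⟩))
  · -- the relations hold
    intro e he
    simp only [E, List.mem_append, List.mem_ofFn] at he
    rcases he with ((⟨i, rfl⟩ | ⟨p, rfl⟩) | ⟨i, rfl⟩) | ⟨p, rfl⟩ <;>
      simp only [iW, iV, map_mul, map_inv, Monoid.Coprod.lift_apply_inl, Monoid.Coprod.lift_apply_inr, L,
        emb_emb]
    · exact (hX i).symm
    · refine mul_inv_eq_iff_eq_mul.1 ((permS_conj hF h2 _ _ _).trans ?_)
      refine emb_congr' hF _ fun j => congrArg Fin.val ?_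
      exact segPerm_apply_off _ _ _ _ _ _ (Or.inl (by simp))
    · refine mul_inv_eq_iff_eq_mul.1 ((permS_conj hF h2 _ _ _).trans ?_)
      refine emb_congr' hF _ fun j => congrArg Fin.val ?_
      exact swap_apply_of_ne_of_ne (by simp [Fin.ext_iff]; omega) (by simp [Fin.ext_iff]; omega)
    · rw [permS_conj]
      refine (emb_commute hF _ _ (fun x y e => ?_) _ _).eq
      have e' := congrArg Fin.val e
      simp at e'
      rw [hσv _ (by simp; try omega)] at e'
      simp at e'
      omega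
  · intro G _ ρ Ψ θ hρ hΨ hgen hrel
    have rel : ∀ e ∈ E, Monoid.Coprod.lift ρ Ψ e.1 = Monoid.Coprod.lift ρ Ψ e.2 := hrel
    have relA : ∀ i, ρ (C i) = Ψ (X i) := fun i => by
      simpa [iW, iV] using rel _ (List.mem_append_left _ (List.mem_append_left _
        (List.mem_append_left _ (List.mem_ofFn.2 ⟨i, rfl⟩))))
    have relB : ∀ p : Fin 4,
        Commute (ρ (D (![0, 0, 1, 1] p))) (Ψ (![u, v] (![0, 1, 0, 1] p))) := fun p => by
      have := rel _ (List.mem_append_left _ (List.mem_append_left _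
        (List.mem_append_right _ (List.mem_ofFn.2 ⟨p, rfl⟩))))
      simpa [iW, iV, Commute, SemiconjBy] using this
    have relC : ∀ i, Commute (ρ s34) (Ψ (L i)) := fun i => by
      have := rel _ (List.mem_append_left _ (List.mem_append_right _ (List.mem_ofFn.2 ⟨i, rfl⟩)))
      simpa [iW, iV, Commute, SemiconjBy] using this
    have relD : ∀ p : Fin 4, Commute (Ψ (L (![0, 0, 1, 1] p)))
        (move ρ Ψ σ (L (![0, 1, 0, 1] p))) := fun p => by
      have := rel _ (List.mem_append_right _ (List.mem_ofFn.2 ⟨p, rfl⟩))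
      simpa [iW, iV, Commute, SemiconjBy, move_apply] using this
    have hB : ∀ g : Perm (Fin n), (∀ i : Fin n, i.val < 4 → g i = i) →
        ∀ x, Commute (ρ g) (Ψ x) := by
      intro g hg x
      obtain ⟨g', rfl⟩ := exists_segPerm 4 (n - 4) n (by omega) g fun y hy => by
        rcases hy with hy | hy
        · exact hg y hy
        · exact absurd y.2 (by omega)
      refine commute_of_gens (ρ.comp (segPerm 4 (n - 4) n (by omega))) _ hf' ?_ g'
      rintro _ ⟨i, rfl⟩
      refine (commute_of_gens Ψ _ huv ?_ x).symm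
      rintro _ (rfl | rfl) <;> refine Commute.symm ?_ <;> fin_cases i
      exacts [relB 0, relB 2, relB 1, relB 3]
    have R : GlueT hF h2 hn5 ρ Ψ θ :=
      glue_of_rels hf4 hρ hΨ hgen X hX relA hB hab (relC 0) (relC 1)
    have b33 : ∀ u v : SU 3 F q, Commute (Ψ (emb hF (seg 0 3 4 (by omega)) u))
        (move ρ Ψ σ (emb hF (seg 0 3 4 (by omega)) v)) := by
      have hh : ∀ i : Fin 2, ∀ z : SU 3 F q, Commute (Ψ (L i))
          (move ρ Ψ σ (emb hF (seg 0 3 4 (by omega)) z)) := by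
        intro i z
        refine (commute_of_gens ((move ρ Ψ σ).comp (emb hF (seg 0 3 4 (by omega)))) _ hab ?_ z).symm
        intro x hx
        rcases hx with rfl | rfl | rfl
        · show Commute (move ρ Ψ σ _) _
          rw [move_apply, ← R.ρ_cyc, ← map_inv, ← map_mul, ← map_mul]
          refine R.stab (by omega) (by omega) _ (fun j hj => ?_) _
          rw [Perm.mul_apply, Perm.mul_apply, cyc_fix hn5, ← Perm.mul_apply, mul_inv_cancel,
            Perm.one_apply]
          by_contra hc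
          have := hσv (σ⁻¹ j) (by omega)
          rw [← Perm.mul_apply, mul_inv_cancel, Perm.one_apply] at this
          omega
        · fin_cases i
          exacts [(relD 0).symm, (relD 2).symm]
        · fin_cases i
          exacts [(relD 1).symm, (relD 3).symm]
      exact fun u v => R.base (by omega) le_rfl σ (fun j hj => by rw [hσv j hj]; omega) hab
        (hh 0) (hh 1) u v
    refine R.injective (fun g g' κ κ' hd u v => ?_) fun _ g g' κ κ' hd u v => ?_
    · refine R.disjoint_comm (by omega) (by omega) le_rfl (by omega) (by omega) σ (fun j => ?_)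
        (fun u v => ?_) g g' κ κ' hd u v
      · rw [hσv _ (by simp; try omega)]
        simp
      · have e : emb hF (seg 0 2 4 (by omega)) v = emb hF (seg 0 3 4 (by omega))
            (emb hF (seg 0 2 3 (by omega)) v) := by
          rw [emb_emb]
          exact emb_congr' hF v fun a => by simp
        rw [e]
        exact b33 u _
    · refine R.disjoint_comm (by omega) (by omega) (by omega) (by omega) (by omega) σ (fun j => ?_)
        b33 g g' κ κ' hd u v
      rw [hσv _ (by simp; try omega)]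
      simp

/-- Five points. -/
theorem hasPres_su_two_five (hF : Fintype.card F = q ^ 2) (h2 : q = 2) :
    HasPres (SU 5 F q) 6 34 := by
  classical
  obtain ⟨a, b, hab⟩ := su_three_gens_perm (F := F) hF h2
  obtain ⟨f4, -, -, hf4, -, -⟩ := ShortAlt.hasPres_perm 4
  obtain ⟨u, v, huv⟩ := exists_su_two_gen (F := F) hF
  have hsl : HasPres (Matrix.SpecialLinearGroup (Fin 2) F) 3 5 := by
    refine (SpPres.hasPres_sl_two (F := F)).2 ((CharP.charP_iff_prime_eq_zero Nat.prime_two).2 ?_)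
    subst h2
    exact_mod_cast char_two hF
  obtain ⟨σ, hσ⟩ := exists_perm_map (seg 0 2 5 (by omega)).injective (seg 3 2 5 (by omega)).injective
  let C : Fin 2 → Perm (Fin 5) := fun i => segPerm 0 4 5 (by omega) (f4 i)
  let s34 : Perm (Fin 5) := swap ⟨3, by omega⟩ ⟨4, by omega⟩
  let L : Fin 2 → SU 4 F q := fun i => emb hF (seg 0 3 4 (by omega)) (![a, b] i)
  let U : Fin 2 → SU 4 F q := fun i => emb hF (seg 0 2 4 (by omega)) (![u, v] i)
  have hCx : ∀ i, ∃ x : SU 4 F q, emb hF (seg 0 4 5 (by omega)) x = permS hF h2 (C i) := fun i =>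
    ⟨_, (permS_segPerm hF h2 0 4 5 (by omega) (f4 i)).symm⟩
  choose X hX using hCx
  let iW : Perm (Fin 5) →* Monoid.Coprod (Perm (Fin 5)) (SU 4 F q) := Monoid.Coprod.inl
  let iV : SU 4 F q →* Monoid.Coprod (Perm (Fin 5)) (SU 4 F q) := Monoid.Coprod.inr
  let E : List (Monoid.Coprod (Perm (Fin 5)) (SU 4 F q) ×
      Monoid.Coprod (Perm (Fin 5)) (SU 4 F q)) :=
    List.ofFn (fun i : Fin 2 => (iW (C i), iV (X i))) ++
    List.ofFn (fun i : Fin 2 => (iW s34 * iV (L i), iV (L i) * iW s34)) ++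
    List.ofFn (fun p : Fin 4 =>
      (iV (L (![0, 0, 1, 1] p)) * (iW σ * iV (U (![0, 1, 0, 1] p)) * (iW σ)⁻¹),
        iW σ * iV (U (![0, 1, 0, 1] p)) * (iW σ)⁻¹ * iV (L (![0, 0, 1, 1] p))))
  have hσv : ∀ j : Fin 5, j.val < 2 → (σ j).val = 3 + j.val := fun j hj => by
    have := hσ ⟨j.val, hj⟩
    rw [show seg 0 2 5 (by omega) ⟨j.val, hj⟩ = j from Fin.ext (Nat.zero_add _)] at this
    rw [this]
    rfl
  refine hasPres_glue (ShortAlt.hasPres_perm 5) (ShortU4.hasPres_su_four_of hF hsl) (permS hF h2)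
    (emb hF (seg 0 4 5 (by omega))) ?_ E (by simp [E]) ?_ ?_
  · set H := (permS (n := 5) (F := F) hF h2).range ⊔ (emb hF (seg 0 4 5 (by omega))).range
    refine gen_triples hF 5 (by omega) H fun i hi z => ?_
    obtain ⟨g, hg⟩ := exists_perm_map (seg 0 3 5 (by omega)).injective (seg i 3 5 hi).injective
    have e : emb hF (seg i 3 5 hi) z = permS hF h2 g *
        emb hF (seg 0 4 5 (by omega)) (emb hF (seg 0 3 4 (by omega)) z) * (permS hF h2 g)⁻¹ := by
      rw [emb_emb, permS_conj]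
      refine emb_congr' hF z fun j => ?_
      rw [← hg j]
      show _ = (g _).val
      congr 2
      exact Fin.ext (by simp)
    rw [e]
    exact mul_mem (mul_mem (Subgroup.mem_sup_left ⟨g, rfl⟩) (Subgroup.mem_sup_right ⟨_, rfl⟩))
      (inv_mem (Subgroup.mem_sup_left ⟨g, rfl⟩))
  · intro e he
    simp only [E, List.mem_append, List.mem_ofFn] at he
    rcases he with (⟨i, rfl⟩ | ⟨i, rfl⟩) | ⟨p, rfl⟩ <;>
      simp only [iW, iV, map_mul, map_inv, Monoid.Coprod.lift_apply_inl, Monoid.Coprod.lift_apply_inr, L,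
        U, emb_emb]
    · exact (hX i).symm
    · refine mul_inv_eq_iff_eq_mul.1 ((permS_conj hF h2 _ _ _).trans ?_)
      refine emb_congr' hF _ fun j => congrArg Fin.val ?_
      exact swap_apply_of_ne_of_ne (by simp [Fin.ext_iff]; omega) (by simp [Fin.ext_iff]; omega)
    · rw [permS_conj]
      refine (emb_commute hF _ _ (fun x y e => ?_) _ _).eq
      have e' := congrArg Fin.val e
      simp at e'
      rw [hσv _ (by simp; try omega)] at e'
      simp at e'
      omega
  · intro G _ ρ Ψ θ hρ hΨ hgen hrel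
    have rel : ∀ e ∈ E, Monoid.Coprod.lift ρ Ψ e.1 = Monoid.Coprod.lift ρ Ψ e.2 := hrel
    have relA : ∀ i, ρ (C i) = Ψ (X i) := fun i => by
      simpa [iW, iV] using rel _ (List.mem_append_left _
        (List.mem_append_left _ (List.mem_ofFn.2 ⟨i, rfl⟩)))
    have relC : ∀ i, Commute (ρ s34) (Ψ (L i)) := fun i => by
      have := rel _ (List.mem_append_left _ (List.mem_append_right _ (List.mem_ofFn.2 ⟨i, rfl⟩)))
      simpa [iW, iV, Commute, SemiconjBy] using this
    have relD : ∀ p : Fin 4, Commute (Ψ (L (![0, 0, 1, 1] p)))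
        (move ρ Ψ σ (U (![0, 1, 0, 1] p))) := fun p => by
      have := rel _ (List.mem_append_right _ (List.mem_ofFn.2 ⟨p, rfl⟩))
      simpa [iW, iV, Commute, SemiconjBy, move_apply] using this
    have hB : ∀ g : Perm (Fin 5), (∀ i : Fin 5, i.val < 4 → g i = i) →
        ∀ x, Commute (ρ g) (Ψ x) := by
      intro g hg x
      have : g = 1 := Equiv.ext fun i => by
        by_contra hne
        have h1 : ¬ i.val < 4 := fun h => hne (hg i h)
        have h3 : ¬ (g i).val < 4 := fun h => hne (g.injective (hg _ h))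
        exact hne (Fin.ext (show (g i).val = i.val by omega))
      rw [this, map_one]
      exact Commute.one_left _
    have R : GlueT hF h2 le_rfl ρ Ψ θ :=
      glue_of_rels hf4 hρ hΨ hgen X hX relA hB hab (relC 0) (relC 1)
    have hh : ∀ i : Fin 2, ∀ z : SU 2 F q, Commute (Ψ (L i))
        (move ρ Ψ σ (emb hF (seg 0 2 4 (by omega)) z)) := by
      intro i z
      refine (commute_of_gens ((move ρ Ψ σ).comp (emb hF (seg 0 2 4 (by omega)))) _ huv ?_ z).symm
      intro x hx
      rcases hx with rfl | rfl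
      · fin_cases i
        exacts [(relD 0).symm, (relD 2).symm]
      · fin_cases i
        exacts [(relD 1).symm, (relD 3).symm]
    refine R.injective (fun g g' κ κ' hd u v => ?_) fun h => absurd h (by omega)
    refine R.disjoint_comm (by omega) (by omega) le_rfl (by omega) (by omega) σ (fun j => ?_)
      (fun u v => R.base le_rfl (by omega) σ (fun j hj => by rw [hσv j hj]; omega) hab (hh 0) (hh 1) u v)
      g g' κ κ' hd u v
    rw [hσv _ (by simp; try omega)]
    simp

end Cfsg.Agent.H68.ShortUn
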