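import Cfsg.Agent.H68.ShortUn.BigPres
import Cfsg.Agent.H68.ShortUn.TwoPres
import Cfsg.Agent.H68.SpPres.Bounds
import Cfsg.Agent.Unitary.Center

/-!
Presentations of `SUₙ(q)` and `PSUₙ(q)` for `n ≥ 4`.
-/

set_option autoImplicit false
set_option linter.unusedSectionVars false

namespace Cfsg.Agent.H68.ShortUn

open Cfsg Matrix Cfsg.Agent.Unitary Cfsg.Agent.Cores.Phan Cfsg.Agent.H99.BoundedPres

variable {F : Type*} [Field F] [Fintype F] {n q : ℕ}

/-- The centre is cyclic. -/
theorem center_cyclic (hF : Fintype.card F = q ^ 2) (hn : 2 ≤ n) :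
    ∃ z : SU n F q, Subgroup.center (SU n F q) = Subgroup.zpowers z := by
  set C := Subgroup.center (SU n F q)
  have hscal : ∀ A : C, ∃ l : F, ∀ y, ap (A : SU n F q) y = l • y := fun A =>
    eq_smul_of_mem_center hF hn A.2
  choose l hl using hscal
  set u : Fin n → F := Pi.single ⟨0, by omega⟩ 1
  have hu0 : u ≠ 0 := fun h => by
    have := congrFun h ⟨0, by omega⟩
    simp [u] at this
  have hinjl : ∀ a b : F, a • u = b • u → a = b := fun a b h => smul_left_injective F hu0 h
  let φ : C →* F :=
    { toFun := l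
      map_one' := hinjl _ _ (by
        rw [← hl, show ((1 : C) : SU n F q) = 1 from rfl, ap_one, one_smul])
      map_mul' := fun A B => hinjl _ _ (by
        rw [← hl, Subgroup.coe_mul, ap_mul, hl, hl, smul_smul]) }
  haveI : IsCyclic C := isCyclic_of_subgroup_isDomain φ fun A B h =>
    Subtype.ext (ap_ext fun y => by rw [hl, hl, show l A = l B from h])
  obtain ⟨g, hg⟩ := IsCyclic.exists_generator (α := C)
  refine ⟨g, le_antisymm (fun y hy => ?_) (Subgroup.zpowers_le.mpr g.2)⟩
  obtain ⟨k, hk⟩ := hg ⟨y, hy⟩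
  exact ⟨k, congrArg Subtype.val hk⟩

theorem hasPres_su_four_six (hF : Fintype.card F = q ^ 2) : HasPres (SU 4 F q) 6 26 :=
  SpPres.hasPres_pads (ShortU4.hasPres_su_four hF) 2

theorem hasPres_su_five_six (hF : Fintype.card F = q ^ 2) : HasPres (SU 5 F q) 6 34 := by
  rcases eq_or_lt_of_le (two_le_q hF) with h | h
  · exact hasPres_su_two_five hF h.symm
  · exact hasPres_su_five hF h

/-- `SUₙ(q)` has a presentation with six generators and at most thirty-eight relations. -/
theorem hasPres_su (hF : Fintype.card F = q ^ 2) (hn : 4 ≤ n) : HasPres (SU n F q) 6 38 := by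
  rcases eq_or_lt_of_le hn with rfl | hn5
  · exact (hasPres_su_four_six hF).mono (by norm_num)
  rcases eq_or_lt_of_le (two_le_q hF) with h | h
  · rcases eq_or_lt_of_le (show 5 ≤ n by omega) with rfl | h6
    · exact (hasPres_su_two_five hF h.symm).mono (by norm_num)
    · exact hasPres_su_two_big hF h.symm h6
  · exact (hasPres_su_big hF h hn5).mono (by norm_num)

/-- One more relation for the projective group. -/
theorem hasPres_psu {k l : ℕ} (hF : Fintype.card F = q ^ 2) (hn : 2 ≤ n)
    (h : HasPres (SU n F q) k l) : HasPres (Cfsg.PSU n F q) k (l + 1) := by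
  obtain ⟨z, hz⟩ := center_cyclic hF hn
  exact h.quotient _ hz

end Cfsg.Agent.H68.ShortUn
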