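import Cfsg.Agent.H68.ShortUn.VecFacts

/-!
One step of the completion, for every field: `SU_{k+3}` and an `SU₄` overlapping in a
three-dimensional block, with the two disjoint commutations, map onto `SU_{k+4}`.
-/

set_option autoImplicit false
set_option linter.unusedSectionVars false

namespace Cfsg.Agent.H68.ShortUn

open Cfsg Matrix Cfsg.Agent.Unitary Cfsg.Agent.Cores.Phan

variable {F : Type*} [Field F] [Fintype F] {k q : ℕ} {G : Type*} [Group G]

theorem emb_congr' {m n : ℕ} (hF : Fintype.card F = q ^ 2) {ι κ : Fin m ↪ Fin n} (u : SU m F q)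
    (h : ∀ j, (ι j).val = (κ j).val) : emb hF ι u = emb hF κ u := by
  rw [Function.Embedding.ext fun j => Fin.ext (h j)]

/-- A vector as its first part and its last entry. -/
theorem split_last {m : ℕ} (v : Fin (m + 1) → F) :
    v = inj F (seg 0 m (m + 1) (by omega)) *ᵥ (fun j => v (seg 0 m (m + 1) (by omega) j)) +
      Pi.single (Fin.last m) (v (Fin.last m)) := by
  ext i
  rcases Nat.lt_or_ge i.val m with h | h
  · have key : ∀ j, v (seg 0 m (m + 1) (by omega) j) =
        (inj F (seg 0 m (m + 1) (by omega)) *ᵥ (fun j => v (seg 0 m (m + 1) (by omega) j)) +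
          Pi.single (Fin.last m) (v (Fin.last m)) : Fin (m + 1) → F)
          (seg 0 m (m + 1) (by omega) j) := fun j => by
      rw [Pi.add_apply, inj_mulVec, Pi.single_eq_of_ne, add_zero]
      intro e; have := congrArg Fin.val e; simp at this; omega
    have e : seg 0 m (m + 1) (by omega) ⟨i.val, h⟩ = i := Fin.ext (Nat.zero_add _)
    rw [← e]
    exact key _
  · obtain rfl : i = Fin.last m := Fin.ext (show i.val = m by omega)
    rw [Pi.add_apply, inj_mulVec_off, Pi.single_eq_same, zero_add]
    intro j e; have := congrArg Fin.val e; simp at this; omega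

theorem herm_split {m : ℕ} (hF : Fintype.card F = q ^ 2) (a : Fin m → F) (c : F) :
    hermForm (m + 1) F q (inj F (seg 0 m (m + 1) (by omega)) *ᵥ a + Pi.single (Fin.last m) c)
      (inj F (seg 0 m (m + 1) (by omega)) *ᵥ a + Pi.single (Fin.last m) c) =
      hermForm m F q a a + c * c ^ q := by
  have h0 : (inj F (seg 0 m (m + 1) (by omega)) *ᵥ a) (Fin.last m) = 0 :=
    inj_mulVec_off _ _ fun j e => by have := congrArg Fin.val e; simp at this; omega
  rw [herm_self_add hF, herm_inj hF, herm_single_left, Pi.single_eq_same, herm_single_right hF, h0]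
  simp [q_ne_zero hF]

theorem ap_emb_split {m : ℕ} (hF : Fintype.card F = q ^ 2) (g : SU m F q) (a : Fin m → F) (c : F) :
    ap (emb hF (seg 0 m (m + 1) (by omega)) g)
      (inj F (seg 0 m (m + 1) (by omega)) *ᵥ a + Pi.single (Fin.last m) c) =
      inj F (seg 0 m (m + 1) (by omega)) *ᵥ ap g a + Pi.single (Fin.last m) c := by
  rw [ap_add, ap_emb_on, ap_emb_off hF _ _ fun j => Pi.single_eq_of_ne (fun e => by
    have := congrArg Fin.val e; simp at this; omega) _]

theorem split_inj {m : ℕ} {a a' : Fin m → F} {c c' : F}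
    (h : inj F (seg 0 m (m + 1) (by omega)) *ᵥ a + Pi.single (Fin.last m) c =
      inj F (seg 0 m (m + 1) (by omega)) *ᵥ a' + Pi.single (Fin.last m) c') : a = a' ∧ c = c' := by
  constructor
  · funext j
    have := congrFun h (seg 0 m (m + 1) (by omega) j)
    rw [Pi.add_apply, Pi.add_apply, inj_mulVec, inj_mulVec, Pi.single_eq_of_ne,
      Pi.single_eq_of_ne, add_zero, add_zero] at this
    · exact this
    · intro e; have := congrArg Fin.val e; simp at this; omega
    · intro e; have := congrArg Fin.val e; simp at this; omega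
  · have := congrFun h (Fin.last m)
    rw [Pi.add_apply, Pi.add_apply, inj_mulVec_off, inj_mulVec_off, Pi.single_eq_same,
      Pi.single_eq_same, zero_add, zero_add] at this
    · exact this
    all_goals intro j e; have := congrArg Fin.val e; simp at this; omega

theorem head_eq (a : Fin 3 → F) (c : F) :
    inj F (seg 0 3 4 (by omega)) *ᵥ a + Pi.single (Fin.last 3) c = ![a 0, a 1, a 2, c] := by
  ext i
  fin_cases i <;> simp +decide [inj, seg, Matrix.mulVec, dotProduct, Fin.sum_univ_three, Pi.single_apply]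

theorem tail_three (a : Fin 3 → F) : inj F (seg 1 3 4 (by omega)) *ᵥ a = ![0, a 0, a 1, a 2] := by
  ext i
  fin_cases i <;> simp +decide [inj, seg, Matrix.mulVec, dotProduct, Fin.sum_univ_three]

theorem tail_two (a : Fin 2 → F) : inj F (seg 2 2 4 (by omega)) *ᵥ a = ![0, 0, a 0, a 1] := by
  ext i
  fin_cases i <;> simp +decide [inj, seg, Matrix.mulVec, dotProduct, Fin.sum_univ_two]

/-- The step. -/
theorem exists_step (hF : Fintype.card F = q ^ 2) (hk : 1 ≤ k) (Φ : SU (k + 3) F q →* G)
    (Ψ : SU 4 F q →* G)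
    (hag : ∀ y, Ψ (emb hF (seg 0 3 4 (by omega)) y) =
      Φ (emb hF (seg k 3 (k + 3) (by omega)) y))
    (hc2 : ∀ a u, Commute (Φ (emb hF (seg 0 (k + 2) (k + 3) (by omega)) a))
      (Ψ (emb hF (seg 2 2 4 (by omega)) u)))
    (hc3 : ∀ a u, Commute (Φ (emb hF (seg 0 (k + 1) (k + 3) (by omega)) a))
      (Ψ (emb hF (seg 1 3 4 (by omega)) u))) :
    ∃ Φ' : SU (k + 4) F q →* G,
      (∀ a, Φ' (emb hF (seg 0 (k + 3) (k + 4) (by omega)) a) = Φ a) ∧
      ∀ r, Φ' (emb hF (seg k 4 (k + 4) (by omega)) r) = Ψ r := by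
  set sA := seg 0 (k + 3) (k + 4) (by omega)
  set s4 := seg k 4 (k + 4) (by omega)
  set sT := seg k 3 (k + 3) (by omega)
  set t3 := seg 0 3 4 (by omega)
  set t22 := seg 2 2 4 (by omega)
  set t31 := seg 1 3 4 (by omega)
  set iA := pairHom hF sA Φ
  set i4 := pairHom hF s4 Ψ
  set A := iA.range
  have hE1 : ∀ y, i4 (emb hF t3 y) = iA (emb hF sT y) := fun y => by
    refine Prod.ext ?_ (hag y)
    show emb hF s4 (emb hF t3 y) = emb hF sA (emb hF sT y)
    rw [emb_emb, emb_emb]
    exact emb_congr' hF y fun j => by simp [s4, t3, sA, sT]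
  have hC2 : ∀ a u, Commute (iA (emb hF (seg 0 (k + 2) (k + 3) (by omega)) a))
      (i4 (emb hF t22 u)) := fun a u => by
    refine Commute.prod ?_ (hc2 a u)
    show Commute (emb hF sA (emb hF _ a)) (emb hF s4 (emb hF t22 u))
    rw [emb_emb, emb_emb]
    exact emb_commute hF _ _ (fun x y e => by
      have := congrArg Fin.val e; simp [sA, s4, t22] at this; omega) a u
  have hC3 : ∀ a u, Commute (iA (emb hF (seg 0 (k + 1) (k + 3) (by omega)) a))
      (i4 (emb hF t31 u)) := fun a u => by
    refine Commute.prod ?_ (hc3 a u)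
    show Commute (emb hF sA (emb hF _ a)) (emb hF s4 (emb hF t31 u))
    rw [emb_emb, emb_emb]
    exact emb_commute hF _ _ (fun x y e => by
      have := congrArg Fin.val e; simp [sA, s4, t31] at this; omega) a u
  set e3 : Fin 4 → F := Pi.single (Fin.last 3) 1
  set e : Fin (k + 4) → F := Pi.single (Fin.last (k + 3)) 1
  -- the first three entries and the last one of the image
  let wb : SU 4 F q → Fin 3 → F := fun r j => ap r e3 (t3 j)
  let wl : SU 4 F q → F := fun r => ap r e3 (Fin.last 3)
  have hw : ∀ r, ap r e3 = inj F t3 *ᵥ wb r + Pi.single (Fin.last 3) (wl r) := fun r =>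
    split_last (ap r e3)
  have hwn : ∀ r, hermForm 3 F q (wb r) (wb r) + wl r * wl r ^ q = 1 := fun r => by
    rw [← herm_split hF, ← hw, herm_ap, single_unit hF]
  -- the stabiliser in the quadrangle
  have same4 : ∀ {r r' : SU 4 F q}, ap r e3 = ap r' e3 → (i4 r)⁻¹ * i4 r' ∈ A := by
    intro r r' h
    obtain ⟨y, hy⟩ := exists_emb_eq hF t3 (g := r⁻¹ * r') fun i hi => by
      obtain rfl : i = Fin.last 3 := by
        refine Fin.ext (show i.val = 3 from ?_)
        by_contra hne
        exact hi ⟨i.val, by omega⟩ (Fin.ext (Nat.zero_add _))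
      rw [ap_mul, show (Pi.single (Fin.last 3) 1 : Fin 4 → F) = e3 from rfl, ← h, ap_inv_ap]
    rw [← map_inv, ← map_mul, ← hy, hE1]
    exact ⟨_, rfl⟩
  let K : SU 4 F q → Subgroup (SU (k + 3) F q) := fun r =>
    A.comap ((MulAut.conj (i4 r)⁻¹).toMonoidHom.comp iA)
  have hK : ∀ r x, x ∈ K r ↔ (i4 r)⁻¹ * iA x * i4 r ∈ A := fun r x => by
    show (i4 r)⁻¹ * iA x * (i4 r)⁻¹⁻¹ ∈ A ↔ _
    rw [inv_inv]
  have Ksame : ∀ {r r' : SU 4 F q}, ap r e3 = ap r' e3 → ∀ {x}, x ∈ K r → x ∈ K r' := by
    intro r r' h x hx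
    rw [hK] at hx ⊢
    have h1 := mul_mem (mul_mem (same4 h.symm) hx) (same4 h)
    rwa [show (i4 r')⁻¹ * i4 r * ((i4 r)⁻¹ * iA x * i4 r) * ((i4 r)⁻¹ * i4 r') =
      (i4 r')⁻¹ * iA x * i4 r' by group] at h1
  have stabT : ∀ r z, ap z (wb r) = wb r → emb hF sT z ∈ K r := by
    intro r z hz
    rw [hK, ← hE1, ← map_inv, ← map_mul, ← map_mul]
    have h : ap (r⁻¹ * emb hF t3 z * r) e3 = ap (1 : SU 4 F q) e3 := by
      rw [ap_mul, ap_mul, hw r, ap_emb_split hF z, hz, ← hw r, ap_inv_ap, ap_one]
    have h2 := same4 h.symm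
    rwa [map_one, inv_one, one_mul] at h2
  -- elements fixing the first part commute modulo the first block
  have hQ : ∀ r x, ap x (inj F sT *ᵥ wb r) = inj F sT *ᵥ wb r → x ∈ K r := by
    suffices red : ∀ t : Fin 3 → F, (∀ r, wb r = t → ∀ x : SU (k + 3) F q,
        ap x (inj F sT *ᵥ t) = inj F sT *ᵥ t → x ∈ K r) →
        ∀ r, hermForm 3 F q (wb r) (wb r) = hermForm 3 F q t t → (wb r = 0 ↔ t = 0) →
        ∀ x, ap x (inj F sT *ᵥ wb r) = inj F sT *ᵥ wb r → x ∈ K r by
      intro r x hx
      by_cases h0 : wb r = 0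
      · refine red 0 ?_ r (by rw [h0]) (by simp [h0]) x hx
        intro r hr x _
        obtain ⟨d, hd⟩ := exists_SU_map_unit hF le_rfl (single_unit hF (1 : Fin 2))
          (y := wl r • Pi.single 1 1) (by
            have := hwn r
            rw [hr, herm_zero_left, zero_add] at this
            rw [herm_self_smul, single_unit hF, mul_one, this])
        refine Ksame (r := emb hF t22 d) ?_ ?_
        · have h1 : e3 = inj F t22 *ᵥ Pi.single 1 1 := by rw [inj_mulVec_single]; rfl
          rw [hw r, hr, mulVec_zero, zero_add, h1, ap_emb_on, hd, mulVec_smul, inj_mulVec_single,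
            ← Pi.single_smul', smul_eq_mul, mul_one]
          rfl
        · have htop : K (emb hF t22 d) = ⊤ := by
            refine top_of_swap hF (k := k + 1) (by omega) _ (fun a => ?_) fun u => ?_
            · rw [hK, mul_assoc, (hC2 a d).eq, inv_mul_cancel_left]
              exact ⟨_, rfl⟩
            · have h2 : emb hF (seg (k + 1) 2 (k + 1 + 2) (by omega)) u =
                  emb hF sT (emb hF (seg 1 2 3 (by omega)) u) := by
                rw [emb_emb]
                exact emb_congr' hF u fun j => by simp [sT]; omega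
              rw [h2]
              refine stabT _ _ ?_
              have hwd : wb (emb hF t22 d) = 0 := by
                funext j
                show ap (emb hF t22 d) e3 (t3 j) = 0
                rw [show e3 = inj F t22 *ᵥ Pi.single 1 1 by rw [inj_mulVec_single]; rfl, ap_emb_on,
                  hd, mulVec_smul, inj_mulVec_single, Pi.smul_apply, Pi.single_eq_of_ne, smul_zero]
                intro e; have := congrArg Fin.val e; simp [t3, t22] at this; omega
              rw [hwd, ap_zero]
          rw [htop]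
          exact Subgroup.mem_top x
      by_cases hN : hermForm 3 F q (wb r) (wb r) = 0
      · obtain ⟨γ, hγ⟩ := exists_norm_eq_neg_one hF
        obtain ⟨η, hη⟩ := exists_trace_eq hF (one_pow q : (1 : F) ^ q = 1)
        refine red ![0, 1, γ] ?_ r ?_ (iff_of_false h0 fun h => ?_) x hx
        · intro r hr x hx
          obtain ⟨z, hz⟩ := exists_SU_map_unit hF (by omega : 2 ≤ 3)
            (single_unit hF (2 : Fin 3)) (y := ![1, γ, wl r]) (by
              have := hwn r
              rw [hr] at this
              simp [hermForm, Fin.sum_univ_three, q_ne_zero hF] at this ⊢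
              linear_combination this)
          refine Ksame (r := emb hF t31 z) ?_ ?_
          · have h1 : e3 = inj F t31 *ᵥ Pi.single 2 1 := by rw [inj_mulVec_single]; rfl
            rw [hw r, hr, h1, ap_emb_on, hz, head_eq, tail_three]
            simp
          · refine mem_of_stab hF hk hγ hη _ (fun a => ?_) (fun z' hz' => ?_) hx
            · rw [hK, mul_assoc, (hC3 a z).eq, inv_mul_cancel_left]
              exact ⟨_, rfl⟩
            · refine stabT _ _ ?_
              have hwd : wb (emb hF t31 z) = ![0, 1, γ] := by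
                funext j
                show ap (emb hF t31 z) e3 (t3 j) = _
                rw [show e3 = inj F t31 *ᵥ Pi.single 2 1 by rw [inj_mulVec_single]; rfl, ap_emb_on,
                  hz, tail_three]
                fin_cases j <;> rfl
              rw [hwd, hz']
        · rw [hN]
          simp [hermForm, Fin.sum_univ_three, hγ, q_ne_zero hF]
        · have := congrFun h 1
          simp at this
      · obtain ⟨α, hα⟩ := exists_norm_eq hF (herm_self_fixed hF (wb r))
        have hα0 : α ≠ 0 := fun h => hN (by rw [← hα, h, zero_mul])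
        refine red (Pi.single 2 α) ?_ r ?_ (iff_of_false h0 (by simpa using hα0)) x hx
        · intro r hr x hx
          obtain ⟨d, hd⟩ := exists_SU_map_unit hF le_rfl (single_unit hF (1 : Fin 2))
            (y := ![α, wl r]) (by
              have := hwn r
              rw [hr, herm_single_left, Pi.single_eq_same] at this
              simpa [hermForm, Fin.sum_univ_two] using this)
          refine Ksame (r := emb hF t22 d) ?_ ?_
          · have h1 : e3 = inj F t22 *ᵥ Pi.single 1 1 := by rw [inj_mulVec_single]; rfl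
            rw [hw r, hr, h1, ap_emb_on, hd, head_eq, tail_two]
            simp
          · obtain ⟨a, rfl⟩ := exists_emb_eq hF (seg 0 (k + 2) (k + 3) (by omega)) (g := x)
              fun i hi => by
                obtain rfl : i = sT 2 := by
                  refine Fin.ext (show i.val = k + 2 from ?_)
                  by_contra hne
                  exact hi ⟨i.val, by omega⟩ (Fin.ext (Nat.zero_add _))
                rw [inj_mulVec_single] at hx
                have h1 : (Pi.single (sT 2) α : Fin (k + 3) → F) = α • Pi.single (sT 2) 1 := by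
                  rw [← Pi.single_smul', smul_eq_mul, mul_one]
                rw [h1, ap_smul] at hx
                exact smul_right_injective _ hα0 hx
            rw [hK, mul_assoc, (hC2 a d).eq, inv_mul_cancel_left]
            exact ⟨_, rfl⟩
        · rw [herm_single_left, Pi.single_eq_same, hα]
    intro t ht r hn h0 x hx
    obtain ⟨y, hy⟩ := exists_SU_map hF le_rfl hn h0
    have hr0 : wb (emb hF t3 y * r) = t := by
      funext j
      show ap (emb hF t3 y * r) e3 (t3 j) = t j
      rw [ap_mul, hw r, ap_emb_split hF y, hy, Pi.add_apply, inj_mulVec, Pi.single_eq_of_ne,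
        add_zero]
      intro e; have := congrArg Fin.val e; simp [t3] at this; omega
    have h1 := ht _ hr0 (emb hF sT y * x * (emb hF sT y)⁻¹) (by
      have hyt : ap (emb hF sT y) (inj F sT *ᵥ wb r) = inj F sT *ᵥ t := by rw [ap_emb_on, hy]
      rw [← hyt, ap_mul, ap_mul, ap_inv_ap, hx])
    rw [hK, map_mul iA, map_mul iA, map_inv iA, map_mul i4, hE1] at h1
    rw [hK]
    rwa [show (iA (emb hF sT y) * i4 r)⁻¹ * (iA (emb hF sT y) * iA x * (iA (emb hF sT y))⁻¹) *
      (iA (emb hF sT y) * i4 r) = (i4 r)⁻¹ * iA x * i4 r by group] at h1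
  -- the image of the last basis vector
  have hv : ∀ h r, ap (iA h * i4 r).1 e =
      inj F sA *ᵥ ap h (inj F sT *ᵥ wb r) + Pi.single (Fin.last (k + 3)) (wl r) := by
    intro h r
    show ap (emb hF sA h * emb hF s4 r) e = _
    have h1 : e = inj F s4 *ᵥ e3 := by
      rw [inj_mulVec_single]
      congr 1
    rw [ap_mul, h1, ap_emb_on, hw r, mulVec_add, inj_mulVec_single, mulVec_mulVec, inj_mul_inj,
      show t3.trans s4 = sT.trans sA from Function.Embedding.ext fun j => Fin.ext (by
        simp [t3, s4, sT, sA]), ← inj_mul_inj, ← mulVec_mulVec,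
      show s4 (Fin.last 3) = Fin.last (k + 3) from Fin.ext rfl]
    exact ap_emb_split hF h _ _
  -- uniqueness
  have hU : ∀ h r h' r', ap (iA h * i4 r).1 e = ap (iA h' * i4 r').1 e →
      (iA h * i4 r)⁻¹ * (iA h' * i4 r') ∈ A := by
    intro h r h' r' heq
    rw [hv, hv] at heq
    obtain ⟨h1, h2⟩ := split_inj heq
    have h3 : hermForm 3 F q (wb r) (wb r) = hermForm 3 F q (wb r') (wb r') := by
      have e1 := hwn r
      have e2 := hwn r'
      rw [h2] at e1
      linear_combination e1 - e2
    have h4 : wb r = 0 ↔ wb r' = 0 := by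
      rw [← eq_zero_inj sT (w := wb r), ← eq_zero_inj sT (w := wb r'),
        ← (ap_injective h).eq_iff, ← (ap_injective h').eq_iff (b := (0 : Fin (k + 3) → F)), h1,
        ap_zero, ap_zero]
    obtain ⟨y, hy⟩ := exists_SU_map hF le_rfl h3 h4
    -- move to the same image
    have h5 : ap (emb hF t3 y * r) e3 = ap r' e3 := by
      rw [ap_mul, hw r, ap_emb_split hF y, hy, h2, ← hw r']
    obtain ⟨x, hxdef⟩ : ∃ x, x = emb hF sT y * h⁻¹ * h' := ⟨_, rfl⟩
    have h6 : ap x (inj F sT *ᵥ wb r') = inj F sT *ᵥ wb r' := by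
      rw [hxdef, ap_mul, ap_mul, ← h1, ap_inv_ap, ap_emb_on, hy]
    have h7 := hQ r' x h6
    rw [hK, hxdef, map_mul iA, map_mul iA, map_inv iA] at h7
    have h8 := same4 h5
    rw [map_mul, hE1] at h8
    have h9 := mul_mem h8 h7
    rwa [show (iA (emb hF sT y) * i4 r)⁻¹ * i4 r' *
      ((i4 r')⁻¹ * (iA (emb hF sT y) * (iA h)⁻¹ * iA h') * i4 r') =
      (iA h * i4 r)⁻¹ * (iA h' * i4 r') by group] at h9
  -- the generated group
  set L := Subgroup.closure ((A : Set (SU (k + 4) F q × G)) ∪ Set.range (i4.comp (emb hF t22)))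
  have hLA : ∀ a, iA a ∈ L := fun a => Subgroup.subset_closure (Or.inl ⟨a, rfl⟩)
  have hL4 : ∀ r, i4 r ∈ L := by
    intro r
    have htop : L.comap i4 = ⊤ := top_of_swap hF (k := 2) le_rfl _
      (fun a => by rw [Subgroup.mem_comap]; exact hE1 a ▸ hLA _)
      (fun u => Subgroup.subset_closure (Or.inr ⟨u, rfl⟩))
    exact (htop ▸ Subgroup.mem_top r : r ∈ L.comap i4)
  have hAe : ∀ a, ap (iA a).1 e = e := fun a => ap_emb_off hF sA a fun j =>
    Pi.single_eq_of_ne (fun h => by have := congrArg Fin.val h; simp [sA] at this; omega) _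
  have hrep : ∀ l ∈ L, ∃ h r a, l = iA h * i4 r * iA a := by
    have step : ∀ g ∈ (A : Set (SU (k + 4) F q × G)) ∪ Set.range (i4.comp (emb hF t22)),
        ∀ h r a, ∃ h' r' a', g * (iA h * i4 r * iA a) = iA h' * i4 r' * iA a' := by
      rintro g (⟨b, rfl⟩ | ⟨u, rfl⟩) h r a
      · exact ⟨b * h, r, a, by rw [map_mul]; simp only [mul_assoc]⟩
      -- reduce to the last four coordinates
      set v := ap (iA h * i4 r).1 e with hvdef
      set s2 := seg 0 (k + 2) (k + 4) (by omega)
      obtain ⟨y, hy, hy0, hys⟩ := exists_two_supp hF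
        (show (⟨k, by omega⟩ : Fin (k + 2)) ≠ ⟨k + 1, by omega⟩ by simp) (fun j => v (s2 j))
      obtain ⟨b, hb⟩ := exists_SU_map hF (by omega) hy.symm hy0
      set B := emb hF (seg 0 (k + 2) (k + 3) (by omega)) b
      set v1 := ap (iA B).1 v with hv1
      have hB1 : (iA B).1 = emb hF s2 b := by
        show emb hF sA (emb hF _ b) = _
        rw [emb_emb]
        exact emb_congr' hF b fun j => by simp [sA, s2]
      have hv1s : ∀ i : Fin (k + 4), i.val < k → v1 i = 0 := by
        intro i hi
        have hdec : v = inj F s2 *ᵥ (fun j => v (s2 j)) + (v - inj F s2 *ᵥ fun j => v (s2 j)) := by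
          abel
        have hoff : ∀ j, (v - inj F s2 *ᵥ fun j => v (s2 j)) (s2 j) = 0 := fun j => by
          rw [Pi.sub_apply, inj_mulVec, sub_self]
        have hi' : i = s2 ⟨i.val, by omega⟩ := Fin.ext (Nat.zero_add _).symm
        rw [hv1, hB1, hdec, ap_add, ap_emb_on, hb, ap_emb_off hF s2 b hoff, Pi.add_apply, hi',
          inj_mulVec, hoff, add_zero]
        exact hys _ (by simp [Fin.ext_iff]; omega) (by simp [Fin.ext_iff]; omega)
      have hv1e : v1 = inj F s4 *ᵥ fun j => v1 (s4 j) := eq_inj_mulVec s4 fun i hi => hv1s i (by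
        by_contra hc
        exact hi ⟨i.val - k, by omega⟩ (Fin.ext (show k + (i.val - k) = i.val by omega)))
      obtain ⟨r1, hr1⟩ := exists_SU_map_unit hF (by omega) (single_unit hF (Fin.last 3))
        (y := fun j => v1 (s4 j)) (by
          rw [← herm_inj hF s4, ← hv1e, hv1, herm_ap, hvdef, herm_ap, single_unit hF])
      obtain ⟨a0, ha0⟩ := hU B⁻¹ r1 h r (by
        rw [← hvdef, Prod.fst_mul, ap_mul, show (i4 r1).1 = emb hF s4 r1 from rfl,
          show e = inj F s4 *ᵥ e3 by rw [inj_mulVec_single]; congr 1, ap_emb_on, hr1, ← hv1e, hv1,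
          map_inv, Prod.fst_inv, ap_inv_ap])
      refine ⟨B⁻¹, emb hF t22 u * r1, a0 * a, ?_⟩
      have hc : Commute (iA B⁻¹) (i4 (emb hF t22 u)) := by
        rw [map_inv]; exact (hC2 b u).inv_left
      show i4 (emb hF t22 u) * _ = _
      rw [map_mul i4, map_mul iA a0, ← mul_assoc (iA B⁻¹) (i4 _), hc.eq,
        show iA h * i4 r = iA B⁻¹ * i4 r1 * iA a0 by rw [ha0, mul_inv_cancel_left]]
      simp only [mul_assoc]
    intro l hl
    induction hl using Subgroup.closure_induction_left with
    | one => exact ⟨1, 1, 1, by simp⟩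
    | mul_left g hg l _ ih =>
      obtain ⟨h, r, a, rfl⟩ := ih
      exact step g hg h r a
    | inv_mul_cancel g hg l _ ih =>
      obtain ⟨h, r, a, rfl⟩ := ih
      refine step g⁻¹ ?_ h r a
      rcases hg with hg | ⟨u, rfl⟩
      · exact Or.inl (inv_mem hg)
      · exact Or.inr ⟨u⁻¹, map_inv _ u⟩
  let P := (MonoidHom.fst (SU (k + 4) F q) G).comp L.subtype
  have hbij : Function.Bijective P := by
    constructor
    · rw [← MonoidHom.ker_eq_bot_iff, eq_bot_iff]
      rintro ⟨l, hl⟩ (hl1 : l.1 = 1)
      rw [Subgroup.mem_bot]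
      refine Subtype.ext ?_
      show l = 1
      obtain ⟨h, r, a, rfl⟩ := hrep l hl
      obtain ⟨a', ha'⟩ := hU 1 1 h r (by
        have := congrArg (fun g => ap g e) hl1
        simp only [Prod.fst_mul (p := iA h * i4 r), ap_mul, hAe, ap_one] at this
        rw [map_one, map_one, mul_one]
        show ap (1 : SU (k + 4) F q) e = _
        rw [ap_one, this])
      rw [map_one, map_one, mul_one, inv_one, one_mul] at ha'
      have hla : iA h * i4 r * iA a = iA (a' * a) := by rw [map_mul, ha']
      have : a' * a = 1 := emb_injective hF sA (by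
        rw [map_one]
        exact (congrArg Prod.fst hla).symm.trans hl1)
      rw [hla, this, map_one]
    · refine MonoidHom.range_eq_top.1 (top_of_swap hF (k := k + 2) (by omega) P.range
        (fun a => ⟨⟨iA a, hLA a⟩, rfl⟩) fun u => ?_)
      refine ⟨⟨i4 (emb hF t22 u), hL4 _⟩, ?_⟩
      show emb hF s4 (emb hF t22 u) = _
      rw [emb_emb]
      exact emb_congr' hF u fun j => by simp [s4, t22]; omega
  let E := MulEquiv.ofBijective P hbij
  refine ⟨(MonoidHom.snd (SU (k + 4) F q) G).comp (L.subtype.comp E.symm.toMonoidHom),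
    fun a => ?_, fun r => ?_⟩
  · have : E.symm (emb hF sA a) = ⟨iA a, hLA a⟩ := by rw [MulEquiv.symm_apply_eq]; rfl
    show (E.symm (emb hF sA a) : SU (k + 4) F q × G).2 = Φ a
    rw [this]; rfl
  · have : E.symm (emb hF s4 r) = ⟨i4 r, hL4 r⟩ := by rw [MulEquiv.symm_apply_eq]; rfl
    show (E.symm (emb hF s4 r) : SU (k + 4) F q × G).2 = Ψ r
    rw [this]; rfl

end Cfsg.Agent.H68.ShortUn
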