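import Cfsg.Agent.Cores.Phan.Step
import Cfsg.Agent.Unitary.Generation

/-!
Transitivity on vectors of given norm, stabilisers of isotropic vectors and generation of `SU` by a
smaller block and one further plane, for every field.
-/

set_option autoImplicit false
set_option linter.unusedSectionVars false

namespace Cfsg.Agent.H68.ShortUn

open Cfsg Matrix Cfsg.Agent.Unitary Cfsg.Agent.Cores.Phan

variable {F : Type*} [Field F] [Fintype F] {n k q : ℕ}

/-- `SU` is transitive on the non-zero vectors of a given norm. -/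
theorem exists_SU_map (hF : Fintype.card F = q ^ 2) (hn : 3 ≤ n) {x y : Fin n → F}
    (hxy : hermForm n F q x x = hermForm n F q y y) (h0 : x = 0 ↔ y = 0) :
    ∃ g : SU n F q, ap g x = y := by
  by_cases hx : x = 0
  · exact ⟨1, by rw [ap_one, h0.1 hx, hx]⟩
  have hy : y ≠ 0 := fun h => hx (h0.2 h)
  by_cases hN : hermForm n F q x x = 0
  · obtain ⟨g, -, hg⟩ := exists_map_isotropic hF (nondeg_top hF)
      (by rw [finrank_top, Module.finrank_fin_fun]; exact hn) Submodule.mem_top Submodule.mem_top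
      hN (hxy ▸ hN) hx hy
    exact ⟨g, hg⟩
  · obtain ⟨γ, hγ⟩ := exists_norm_eq hF (herm_self_fixed hF x)
    have hγ0 : γ ≠ 0 := fun h => hN (by rw [← hγ, h, zero_mul])
    have h1 : ∀ z : Fin n → F, hermForm n F q z z = γ * γ ^ q →
        hermForm n F q (γ⁻¹ • z) (γ⁻¹ • z) = 1 := fun z hz => by
      rw [herm_self_smul, hz, inv_pow, ← mul_inv, inv_mul_cancel₀]
      exact mul_ne_zero hγ0 (pow_ne_zero _ hγ0)
    obtain ⟨g, hg⟩ := exists_SU_map_unit hF (by omega) (h1 x hγ.symm) (h1 y (hxy ▸ hγ.symm))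
    refine ⟨g, ?_⟩
    rw [ap_smul] at hg
    exact (smul_right_injective _ (inv_ne_zero hγ0)) hg

/-- A vector of given norm and zero status supported on two given coordinates. -/
theorem exists_two_supp (hF : Fintype.card F = q ^ 2) {i j : Fin n} (hij : i ≠ j)
    (x : Fin n → F) :
    ∃ y : Fin n → F, hermForm n F q y y = hermForm n F q x x ∧ (x = 0 ↔ y = 0) ∧
      ∀ l, l ≠ i → l ≠ j → y l = 0 := by
  by_cases hx : x = 0
  · exact ⟨0, by rw [hx], by simp [hx], fun _ _ _ => rfl⟩
  by_cases hN : hermForm n F q x x = 0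
  · obtain ⟨γ, hγ⟩ := exists_norm_eq_neg_one hF
    refine ⟨Pi.single i 1 + Pi.single j γ, ?_, iff_of_false hx fun h => ?_, fun l h1 h2 => ?_⟩
    · rw [hN, herm_self_add hF]
      simp [herm_single_left, Pi.single_apply, hij, hγ, q_ne_zero hF]
    · have := congrFun h i
      simp [Pi.single_apply, hij] at this
    · simp [h1, h2]
  · obtain ⟨γ, hγ⟩ := exists_norm_eq hF (herm_self_fixed hF x)
    refine ⟨Pi.single j γ, ?_, iff_of_false hx fun h => hN ?_, fun l _ h2 => by simp [h2]⟩
    · rw [herm_single_left, Pi.single_eq_same, hγ]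
    · have := congrFun h j
      simp at this
      rw [← hγ, this, zero_mul]

theorem single_eq_inj {m : ℕ} (ι : Fin k ↪ Fin m) (j : Fin k) :
    (Pi.single (ι j) 1 : Fin m → F) = inj F ι *ᵥ Pi.single j 1 := (inj_mulVec_single ι j 1).symm

theorem eq_zero_inj {m : ℕ} (ι : Fin k ↪ Fin m) {w : Fin k → F} :
    inj F ι *ᵥ w = 0 ↔ w = 0 := by
  refine ⟨fun h => funext fun j => ?_, fun h => by rw [h, mulVec_zero]⟩
  rw [← inj_mulVec ι w j, h]
  rfl

/-- A smaller block and a swap in the last plane generate. -/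
theorem top_of_swap (hF : Fintype.card F = q ^ 2) (hk : 2 ≤ k) (H : Subgroup (SU (k + 2) F q))
    (hA : ∀ a, emb hF (seg 0 (k + 1) (k + 2) (by omega)) a ∈ H)
    (hU : ∀ u, emb hF (seg k 2 (k + 2) (by omega)) u ∈ H) : H = ⊤ := by
  set sA := seg 0 (k + 1) (k + 2) (by omega)
  set sU := seg k 2 (k + 2) (by omega)
  set e : Fin (k + 2) → F := Pi.single (Fin.last (k + 1)) 1
  set ek : Fin (k + 2) → F := Pi.single ⟨k, by omega⟩ 1
  obtain ⟨w, hw⟩ := exists_swap (F := F) (q := q) hF
  have hwe : ap (emb hF sU w) e = ek := by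
    have h1 : e = inj F sU *ᵥ Pi.single 1 1 := by
      rw [inj_mulVec_single]; congr 1
    rw [h1, ap_emb_on, hw, inj_mulVec_single]
    congr 1
  have hoff : ∀ i : Fin (k + 2), (∀ j, sA j ≠ i) → i = Fin.last (k + 1) := by
    intro i hi
    by_contra hne
    have : i.val ≠ k + 1 := fun h => hne (Fin.ext h)
    exact hi ⟨i.val, by omega⟩ (Fin.ext (Nat.zero_add _))
  have hek : ek (Fin.last (k + 1)) = 0 := Pi.single_eq_of_ne (by
    intro h; have := congrArg Fin.val h; simp at this) _
  -- a unit vector with vanishing last entry goes to `e`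
  have flat : ∀ v : Fin (k + 2) → F, hermForm (k + 2) F q v v = 1 → v (Fin.last (k + 1)) = 0 →
      ∃ h ∈ H, ap h v = e := by
    intro v hv hl
    obtain ⟨a, ha⟩ := exists_emb_map hF (by omega) sA (x := v) (y := ek)
      (fun i hi => by rw [hoff i hi, hl]) (fun i hi => by rw [hoff i hi, hek]) hv (single_unit hF _)
    refine ⟨(emb hF sU w)⁻¹ * emb hF sA a, mul_mem (inv_mem (hU w)) (hA a), ?_⟩
    rw [ap_mul, ha, ← hwe, ap_inv_ap]
  have move : ∀ v : Fin (k + 2) → F, hermForm (k + 2) F q v v = 1 → ∃ h ∈ H, ap h v = e := by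
    intro v hv
    obtain ⟨y, hy, hy0, hys⟩ := exists_two_supp hF
      (show (⟨0, by omega⟩ : Fin (k + 1)) ≠ ⟨1, by omega⟩ by simp [Fin.ext_iff]) (fun j => v (sA j))
    obtain ⟨a, ha⟩ := exists_SU_map hF (by omega) hy.symm hy0
    set v1 := ap (emb hF sA a) v
    have hv1k : v1 ⟨k, by omega⟩ = 0 := by
      have hsplit : v = inj F sA *ᵥ (fun j => v (sA j)) + Pi.single (Fin.last (k + 1)) (v (Fin.last (k + 1))) := by
        ext i
        by_cases hi : ∀ j, sA j ≠ i
        · rw [Pi.add_apply, inj_mulVec_off _ _ hi, hoff i hi, Pi.single_eq_same, zero_add]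
        · push Not at hi
          obtain ⟨j, rfl⟩ := hi
          rw [Pi.add_apply, inj_mulVec, Pi.single_eq_of_ne, add_zero]
          intro h; have := congrArg Fin.val h; simp [sA] at this; omega
      have hfix : ap (emb hF sA a) (Pi.single (Fin.last (k + 1)) (v (Fin.last (k + 1)))) =
          Pi.single (Fin.last (k + 1)) (v (Fin.last (k + 1))) := ap_emb_off hF _ _ fun j =>
        Pi.single_eq_of_ne (by intro h; have := congrArg Fin.val h; simp [sA] at this; omega) _
      show ap (emb hF sA a) v _ = 0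
      rw [hsplit, ap_add, ap_emb_on, ha, hfix, Pi.add_apply,
        show (⟨k, by omega⟩ : Fin (k + 2)) = sA ⟨k, by omega⟩ from Fin.ext (Nat.zero_add _).symm,
        inj_mulVec, hys _ (by simp [Fin.ext_iff]; omega) (by simp [Fin.ext_iff]; omega),
        Pi.single_eq_of_ne (by intro h; have := congrArg Fin.val h; simp [sA] at this), add_zero]
    have hn1 : hermForm (k + 2) F q v1 v1 = 1 := by rw [herm_ap, hv]
    set v2 := ap (emb hF sU w)⁻¹ v1
    have hv2 : v2 (Fin.last (k + 1)) = 0 := by
      have h := herm_ap (emb hF sU w) v2 e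
      rw [hwe, ap_ap_inv, herm_single_right hF, herm_single_right hF, hv1k, zero_mul, one_pow,
        mul_one] at h
      exact h.symm
    obtain ⟨h, hh, he⟩ := flat v2 (by rw [herm_ap, hn1]) hv2
    exact ⟨h * (emb hF sU w)⁻¹ * emb hF sA a, mul_mem (mul_mem hh (inv_mem (hU w))) (hA a), by
      rw [ap_mul, ap_mul]; exact he⟩
  rw [eq_top_iff]
  intro g _
  obtain ⟨h, hh, he⟩ := move (ap g e) (by rw [herm_ap, single_unit hF])
  obtain ⟨a, ha⟩ := exists_emb_eq hF sA (g := h * g) fun i hi => by
    rw [hoff i hi, ap_mul]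
    exact he
  rw [← H.mul_mem_cancel_left hh, ← ha]
  exact hA a

/-- The stabiliser of an isotropic vector of the last plane. -/
theorem mem_of_stab (hF : Fintype.card F = q ^ 2) (hk : 1 ≤ k) {γ η : F} (hγ : γ * γ ^ q = -1)
    (hη : η + η ^ q = 1) (K : Subgroup (SU (k + 3) F q))
    (hB : ∀ a, emb hF (seg 0 (k + 1) (k + 3) (by omega)) a ∈ K)
    (hT : ∀ z : SU 3 F q, ap z ![0, 1, γ] = ![0, 1, γ] →
      emb hF (seg k 3 (k + 3) (by omega)) z ∈ K)
    {x : SU (k + 3) F q}
    (hx : ap x (inj F (seg k 3 (k + 3) (by omega)) *ᵥ ![0, 1, γ]) =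
      inj F (seg k 3 (k + 3) (by omega)) *ᵥ ![0, 1, γ]) : x ∈ K := by
  set sT := seg k 3 (k + 3) (by omega)
  set sB := seg 0 (k + 1) (k + 3) (by omega)
  set W : Fin (k + 3) → F := inj F sT *ᵥ ![0, 1, γ]
  set f : Fin (k + 3) → F := inj F sT *ᵥ ![0, η, (η - 1) * γ]
  have e3 : ∀ a b : Fin 3 → F, hermForm (k + 3) F q (inj F sT *ᵥ a) (inj F sT *ᵥ b) =
      hermForm 3 F q a b := herm_inj hF sT
  have hγq : γ ^ q * γ = -1 := by rw [mul_comm]; exact hγ
  have hWW : hermForm (k + 3) F q W W = 0 := by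
    rw [e3]
    simp [hermForm, Fin.sum_univ_three, hγ, q_ne_zero hF]
  have hfW : hermForm (k + 3) F q f W = 1 := by
    rw [e3]
    simp [hermForm, Fin.sum_univ_three, q_ne_zero hF, mul_assoc, hγ]
  have hff : hermForm (k + 3) F q f f = 0 := by
    rw [e3]
    simp [hermForm, Fin.sum_univ_three, q_ne_zero hF, mul_pow, sub_pow_q hF]
    linear_combination (η - 1) * (η ^ q - 1) * hγ + hη
  have hsmall : ∀ i : Fin (k + 3), i.val ≤ k → W i = 0 ∧ f i = 0 := by
    intro i hi
    by_cases h : i.val = k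
    · have : i = sT 0 := Fin.ext h
      rw [this]
      exact ⟨inj_mulVec sT _ 0, inj_mulVec sT _ 0⟩
    · have : ∀ j, sT j ≠ i := fun j e => by
        have := congrArg Fin.val e; simp [sT] at this; omega
      exact ⟨inj_mulVec_off sT _ this, inj_mulVec_off sT _ this⟩
  have hBfix : ∀ a, ap (emb hF sB a) W = W ∧ ap (emb hF sB a) f = f := fun a =>
    ⟨ap_emb_off hF sB a fun j => (hsmall _ (by simp [sB]; omega)).1,
      ap_emb_off hF sB a fun j => (hsmall _ (by simp [sB]; omega)).2⟩
  -- the Eichler elements at `W`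
  have orth : ∀ z : Fin (k + 3) → F, (∀ i : Fin (k + 3), k < i.val → z i = 0) →
      hermForm (k + 3) F q z W = 0 ∧ hermForm (k + 3) F q z f = 0 := by
    intro z hz
    constructor <;>
    · refine Finset.sum_eq_zero fun i _ => ?_
      rcases Nat.lt_or_ge k i.val with h | h
      · rw [hz i h, zero_mul]
      · first
          | rw [(hsmall i h).1, zero_pow (q_ne_zero hF), mul_zero]
          | rw [(hsmall i h).2, zero_pow (q_ne_zero hF), mul_zero]
  have inT : ∀ c α (h : ESpec q W (Pi.single (sT 0) c) α), eSU hF h ∈ K := by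
    intro c α h
    obtain ⟨z, hz⟩ := exists_emb_eq hF sT (g := eSU hF h) fun i hi => by
      rw [ap_eSU, herm_single_left, herm_single_left, show W i = 0 from inj_mulVec_off sT _ hi,
        Pi.single_eq_of_ne (Ne.symm (hi 0))]
      simp [q_ne_zero hF]
    rw [← hz]
    refine hT z ?_
    have hW : ap (eSU hF h) W = W := by
      rw [ap_eSU, hWW, (herm_eq_zero_symm hF).1 h.orth]
      simp
    rw [← hz, ap_emb_on] at hW
    funext j
    have := congrFun hW (sT j)
    rwa [inj_mulVec, show W (sT j) = ![0, 1, γ] j from inj_mulVec sT _ j] at this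
  have hadd : ∀ w w' : Fin (k + 3) → F, hermForm (k + 3) F q w W = 0 →
      hermForm (k + 3) F q w' W = 0 → (∀ α (h : ESpec q W w α), eSU hF h ∈ K) →
      (∀ α (h : ESpec q W w' α), eSU hF h ∈ K) →
      ∀ α (h : ESpec q W (w + w') α), eSU hF h ∈ K := by
    intro w w' hw hw' hm hm' α hα
    obtain ⟨a, ha⟩ := exists_alpha hF hWW hw
    have hb : ESpec q W w' (α - a + hermForm (k + 3) F q w' w) := by
      refine ⟨hWW, hw', ?_⟩
      have := hα.tr
      rw [herm_self_add hF, herm_swap hF w w'] at this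
      rw [add_pow_q hF, sub_pow_q hF, herm_swap hF w' w]
      linear_combination this - ha.tr
    have e : eSU hF (eSpec_add hF ha hb) = eSU hF hα := by
      refine ap_ext fun y => ?_
      simp only [ap_eSU]
      module
    rw [← e, ← eSU_mul hF ha hb (eSpec_add hF ha hb)]
    exact mul_mem (hm a ha) (hm' _ hb)
  have hone : ∀ (i : Fin (k + 3)) c, i.val ≤ k →
      ∀ α (h : ESpec q W (Pi.single i c) α), eSU hF h ∈ K := by
    intro i c hi α hα
    obtain ⟨p, hp⟩ := exists_SU_map_unit hF (by omega : 2 ≤ k + 1)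
      (single_unit hF (⟨k, by omega⟩ : Fin (k + 1))) (single_unit hF (⟨i.val, by omega⟩ : Fin (k + 1)))
    have hpe : ap (emb hF sB p) (Pi.single (sT 0) c) = Pi.single i c := by
      have e1 : sT 0 = sB ⟨k, by omega⟩ := Fin.ext (Nat.zero_add _).symm
      have e2 : i = sB ⟨i.val, by omega⟩ := Fin.ext (Nat.zero_add _).symm
      have h1 : ∀ j : Fin (k + 1), (Pi.single (sB j) c : Fin (k + 3) → F) =
          c • (inj F sB *ᵥ Pi.single j 1) := fun j => by
        rw [inj_mulVec_single, ← Pi.single_smul', smul_eq_mul, mul_one]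
      conv_rhs => rw [e2, h1]
      rw [e1, h1, ap_smul, ap_emb_on, hp]
    have h0 : ESpec q W (Pi.single (sT 0) c) α := by
      refine ⟨hWW, ?_, ?_⟩
      · rw [herm_single_left, (hsmall (sT 0) (by simp [sT])).1, zero_pow (q_ne_zero hF), mul_zero]
      · rw [← herm_ap (emb hF sB p) (Pi.single (sT 0) c), hpe]
        exact hα.tr
    have h1 : ESpec q (ap (emb hF sB p) W) (ap (emb hF sB p) (Pi.single (sT 0) c)) α := eSpec_ap _ h0
    have e : eSU hF hα = eSU hF h1 := by
      refine ap_ext fun y => ?_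
      simp only [ap_eSU, (hBfix p).1, hpe]
    rw [e, ← conj_eSU hF _ h0 h1]
    exact mul_mem (mul_mem (hB p) (inT c α h0)) (inv_mem (hB p))
  have hE : ∀ z : Fin (k + 3) → F, (∀ i : Fin (k + 3), k < i.val → z i = 0) →
      ∀ α (h : ESpec q W z α), eSU hF h ∈ K := by
    intro z hz
    have key : ∀ s : Finset (Fin (k + 3)), (∀ i ∈ s, i.val ≤ k) →
        (∀ i : Fin (k + 3), k < i.val → (∑ j ∈ s, Pi.single j (z j) : Fin (k + 3) → F) i = 0) ∧
          ∀ α (h : ESpec q W (∑ j ∈ s, Pi.single j (z j)) α), eSU hF h ∈ K := by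
      classical
      intro s
      induction s using Finset.induction_on with
      | empty =>
        intro _
        refine ⟨fun i _ => by simp, fun α hα => ?_⟩
        have := hone (sT 0) 0 (by simp [sT]) α (by simpa using hα)
        convert this using 2
        simp
      | insert j s hjs ih =>
        intro hs
        obtain ⟨h1, h2⟩ := ih fun i hi => hs i (Finset.mem_insert_of_mem hi)
        rw [Finset.sum_insert hjs]
        have hj := hs j (Finset.mem_insert_self j s)
        refine ⟨fun i hi => ?_, hadd _ _ ?_ (orth _ h1).1 (hone j (z j) hj) h2⟩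
        · rw [Pi.add_apply, h1 i hi, Pi.single_eq_of_ne (by rintro rfl; omega), add_zero]
        · exact (orth _ fun i hi => Pi.single_eq_of_ne (by rintro rfl; omega) _).1
    have hsum : (∑ j ∈ Finset.univ.filter (fun j : Fin (k + 3) => j.val ≤ k), Pi.single j (z j)) = z := by
      ext i
      rw [Finset.sum_apply]
      rcases Nat.lt_or_ge k i.val with h | h
      · rw [hz i h]
        refine Finset.sum_eq_zero fun j hj => Pi.single_eq_of_ne ?_ _
        simp at hj
        intro e; rw [e] at h; omega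
      · rw [Finset.sum_eq_single i]
        · simp
        · exact fun j _ hj => Pi.single_eq_of_ne (Ne.symm hj) _
        · intro hi; simp at hi; omega
    have := (key (Finset.univ.filter fun j : Fin (k + 3) => j.val ≤ k)
      fun i hi => (Finset.mem_filter.1 hi).2).2
    rw [hsum] at this
    exact this
  -- the two vectors of the plane
  have hWf : hermForm (k + 3) F q W f = 1 := by rw [← herm_swap hF f W, hfW, one_pow]
  set β := hermForm (k + 3) F q (ap x f - f) f with hβ
  set z := ap x f - f - β • W with hzdef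
  have hzW : hermForm (k + 3) F q z W = 0 := by
    have h1 := herm_ap x f W
    rw [hx, hfW] at h1
    rw [hzdef, herm_sub_left, herm_sub_left, herm_smul_left, h1, hfW, hWW]
    ring
  have hzf : hermForm (k + 3) F q z f = 0 := by
    rw [hzdef, herm_sub_left, herm_smul_left, hWf, ← hβ, mul_one, sub_self]
  have hγ0 : γ ≠ 0 := fun h => by rw [h, zero_mul] at hγ; exact one_ne_zero (neg_eq_zero.1 hγ.symm)
  have hsplitT : ∀ a : Fin 3 → F, hermForm (k + 3) F q z (inj F sT *ᵥ a) =
      z (sT 0) * a 0 ^ q + z (sT 1) * a 1 ^ q + z (sT 2) * a 2 ^ q := by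
    intro a
    have ha : inj F sT *ᵥ a = ∑ j, Pi.single (sT j) (a j) := by
      conv_lhs => rw [← Finset.univ_sum_single a]
      rw [mulVec_sum]
      simp only [inj_mulVec_single]
    rw [ha, herm_sum_right hF, Fin.sum_univ_three]
    simp only [herm_single_right hF]
  have hz12 : z (sT 1) = 0 ∧ z (sT 2) = 0 := by
    have h1 := hzW
    have h2 := hzf
    rw [hsplitT] at h1 h2
    simp [q_ne_zero hF, mul_pow, sub_pow_q hF] at h1 h2
    have h3 : z (sT 2) * γ ^ q = 0 := by linear_combination η ^ q * h1 - h2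
    rcases mul_eq_zero.1 h3 with h | h
    · exact ⟨by rw [h, zero_mul, add_zero] at h1; exact h1, h⟩
    · exact absurd h (pow_ne_zero _ hγ0)
  have hzs : ∀ i : Fin (k + 3), k < i.val → z i = 0 := by
    intro i hi
    rcases Nat.lt_or_ge i.val (k + 2) with h | h
    · rw [show i = sT 1 from Fin.ext (show i.val = k + 1 by omega)]; exact hz12.1
    · rw [show i = sT 2 from Fin.ext (show i.val = k + 2 by omega)]; exact hz12.2
  have hgf : ap x f = f + z + β • W := by rw [hzdef]; abel
  have hspec : ESpec q W z β := by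
    refine ⟨hWW, hzW, ?_⟩
    have h1 := herm_ap x f f
    rw [hff, hgf] at h1
    simp only [herm_add_left, herm_add_right hF, herm_smul_left, herm_smul_right, hff, hzf, hzW,
      hfW, hWf, hWW, (herm_eq_zero_symm hF).1 hzf, (herm_eq_zero_symm hF).1 hzW] at h1
    linear_combination h1
  have hEK := hE z hzs β hspec
  rw [← K.mul_mem_cancel_left (inv_mem hEK)]
  set E := eSU hF hspec
  have hEW : ap E W = W := by
    simp only [E, ap_eSU, hWW, (herm_eq_zero_symm hF).1 hzW]
    module
  have hEf : ap E f = ap x f := by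
    simp only [E, ap_eSU, hfW, (herm_eq_zero_symm hF).1 hzf, hgf]
    module
  have hy1 : ap (E⁻¹ * x) W = W := by rw [ap_mul, hx]; nth_rw 1 [← hEW]; exact ap_inv_ap _ _
  have hy2 : ap (E⁻¹ * x) f = f := by rw [ap_mul, ← hEf, ap_inv_ap]
  obtain ⟨a, ha⟩ := exists_emb_eq hF sB (g := E⁻¹ * x) fun i hi => by
    have hi' : k < i.val := by
      by_contra h
      exact hi ⟨i.val, by omega⟩ (Fin.ext (Nat.zero_add _))
    have e2 : (Pi.single (sT 2) 1 : Fin (k + 3) → F) = (-γ⁻¹) • (f - η • W) := by
      rw [← inj_mulVec_single, ← mulVec_smul, ← mulVec_sub, ← mulVec_smul]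
      congr 1
      ext j
      fin_cases j <;> simp <;> field_simp <;> ring
    have e1 : (Pi.single (sT 1) 1 : Fin (k + 3) → F) = W - γ • Pi.single (sT 2) 1 := by
      rw [← inj_mulVec_single, ← inj_mulVec_single, ← mulVec_smul, ← mulVec_sub]
      congr 1
      ext j
      fin_cases j <;> simp
    have fix2 : ap (E⁻¹ * x) (Pi.single (sT 2) 1) = Pi.single (sT 2) 1 := by
      rw [e2, ap_smul, ap_sub, ap_smul, hy1, hy2]
    rcases Nat.lt_or_ge i.val (k + 2) with h | h
    · rw [show i = sT 1 from Fin.ext (show i.val = k + 1 by omega), e1, ap_sub, ap_smul, hy1, fix2]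
    · rw [show i = sT 2 from Fin.ext (show i.val = k + 2 by omega)]
      exact fix2
  rw [← ha]
  exact hB a

end Cfsg.Agent.H68.ShortUn
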